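import Cfsg.Agent.Lib.Helper28.Mult.Exist

/-!
# Existence of a stem extension with cyclic kernel, from a presentation, a model and a bound (helper28)

Variant of `CG.stem`: instead of a presentation of `G` one uses a bound for the order of the presented group.
-/

set_option autoImplicit false

namespace Cfsg.Agent.Lib.Helper28

open CG in
/-- the last generator is central -/
theorem CG.gen_central {n : ℕ} {W : List (List ℕ)}
    (hcomm : ∀ x < n, [2 * n, 2 * x, 2 * n + 1, 2 * x + 1] ∈ W) :
    gen (n + 1) W n ∈ Subgroup.center (CG (n + 1) W) := by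
  set z : CG (n + 1) W := gen (n + 1) W n with hz
  have h1 : Subgroup.closure (gen (n + 1) W '' {i | i < n + 1}) ≤ Subgroup.centralizer {z} := by
    rw [Subgroup.closure_le]
    rintro _ ⟨i, hi, rfl⟩
    have hi' : i < n + 1 := hi
    rw [SetLike.mem_coe, Subgroup.mem_centralizer_iff]
    intro y hy
    rw [Set.mem_singleton_iff] at hy
    subst hy
    rcases Nat.lt_succ_iff_lt_or_eq.mp hi' with h | h
    · have h2 := rel (k := n + 1) (hcomm i h)
      simp only [evalW_cons, evalW_nil, mul_one] at h2
      have e1 : bval (gen (n + 1) W) (2 * n) = z := by unfold bval; rw [if_pos (by omega)]; congr 1; omega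
      have e2 : bval (gen (n + 1) W) (2 * n + 1) = z⁻¹ := by
        unfold bval; rw [if_neg (by omega)]; congr 2; omega
      have e3 : bval (gen (n + 1) W) (2 * i) = gen (n + 1) W i := by
        unfold bval; rw [if_pos (by omega)]; congr 1; omega
      have e4 : bval (gen (n + 1) W) (2 * i + 1) = (gen (n + 1) W i)⁻¹ := by
        unfold bval; rw [if_neg (by omega)]; congr 2; omega
      rw [e1, e2, e3, e4] at h2
      have h3 : z * gen (n + 1) W i = gen (n + 1) W i * z := by
        have := congrArg (fun t => t * gen (n + 1) W i * z) h2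
        simpa [mul_assoc] using this
      exact h3
    · subst h; rfl
  rw [closure_gen] at h1
  rw [Subgroup.mem_center_iff]
  intro g
  have := Subgroup.mem_centralizer_iff.mp (h1 (Subgroup.mem_top g)) z rfl
  exact this.symm

open CG in
/-- a stem extension with cyclic kernel of order `m` -/
theorem CG.stem' {G : Type} [Group G] [Finite G] {n m : ℕ} {W : List (List ℕ)} (hm : 0 < m)
    (hWk : ∀ w ∈ W, ∀ y ∈ w, y < 2 * (n + 1))
    (hcomm : ∀ x < n, [2 * n, 2 * x, 2 * n + 1, 2 * x + 1] ∈ W)
    (hpow : List.replicate m (2 * n) ∈ W)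
    (γ : ℕ → G) (hγn : γ n = 1) (hγ : ∀ w ∈ W, evalW (bval γ) w = 1)
    (hsurj : Subgroup.closure (γ '' {i | i < n}) = ⊤)
    (hfin : Finite (CG (n + 1) W)) (hcard : Nat.card (CG (n + 1) W) ≤ m * Nat.card G)
    {Δ : Type*} [Group Δ] (δ : ℕ → Δ) (hδ : ∀ w ∈ W, evalW (bval δ) w = 1)
    (hord : ∀ d, d < m → 0 < d → δ n ^ d ≠ 1)
    (Vs : List (List ℕ)) (hVs : ∀ v ∈ Vs, v ∈ W ∨ invW v ∈ W)
    (hVk : ∀ y ∈ Vs.flatten, y < 2 * (n + 1))
    (hV0 : ∀ i < n, esum i Vs.flatten = 0) (hV1 : esum n Vs.flatten = 1) :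
    ∃ σ : CG (n + 1) W →* G, Cfsg.IsStemExtension σ ∧
      Nonempty (σ.ker ≃* Multiplicative (ZMod m)) := by
  classical
  obtain ⟨σ, hσ⟩ := exists_lift hWk γ hγ
  obtain ⟨f, hf⟩ := exists_lift hWk δ hδ
  set z : CG (n + 1) W := gen (n + 1) W n with hz
  have hzc : z ∈ Subgroup.center (CG (n + 1) W) := CG.gen_central hcomm
  let N : Subgroup (CG (n + 1) W) := Subgroup.zpowers z
  have hNc : N ≤ Subgroup.center (CG (n + 1) W) := by
    rw [Subgroup.zpowers_le]; exact hzc
  have hσz : σ z = 1 := by rw [hσ n (Nat.lt_succ_self n), hγn]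
  -- surjectivity
  have hsur : Function.Surjective σ := by
    rw [← MonoidHom.range_eq_top, eq_top_iff, ← hsurj, Subgroup.closure_le]
    rintro _ ⟨i, hi, rfl⟩
    exact ⟨gen (n + 1) W i, hσ i (Nat.lt_succ_of_lt hi)⟩
  -- the order of `z`
  have hzm : z ^ m = 1 := by
    have h2 := rel (k := n + 1) hpow
    rw [evalW_replicate] at h2
    have e1 : bval (gen (n + 1) W) (2 * n) = z := by unfold bval; rw [if_pos (by omega)]; congr 1; omega
    rwa [e1] at h2
  have hord' : orderOf z = m := by
    rw [orderOf_eq_iff hm]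
    refine ⟨hzm, fun d hd hd0 hcon => hord d hd hd0 ?_⟩
    rw [← hf n (Nat.lt_succ_self n), ← map_pow, hcon, map_one]
  have hcardN : Nat.card N = m := by rw [Nat.card_zpowers, hord']
  -- the kernel
  have hker : σ.ker = N := by
    symm
    apply Subgroup.eq_of_le_of_card_ge
    · rw [Subgroup.zpowers_le]; exact hσz
    · rw [hcardN]
      have h2 : Nat.card (CG (n + 1) W) = Nat.card G * Nat.card σ.ker := by
        rw [Subgroup.card_eq_card_quotient_mul_card_subgroup σ.ker,
          Nat.card_congr (QuotientGroup.quotientKerEquivOfSurjective σ hsur).toEquiv]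
      rw [h2, mul_comm m] at hcard
      exact Nat.le_of_mul_le_mul_left hcard Nat.card_pos
  -- `z` is a product of commutators
  have hzcomm : z ∈ commutator (CG (n + 1) W) := by
    have h1 : evalW (bval (gen (n + 1) W)) Vs.flatten = 1 := by
      apply evalW_flatten_one
      intro v hv
      rcases hVs v hv with h | h
      · exact rel h
      · have h2 := rel (k := n + 1) h
        rw [evalW_invW (bval_oinv _)] at h2
        exact inv_eq_one.mp h2
    have h2 := congrArg (Abelianization.of (G := CG (n + 1) W)) h1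
    rw [map_evalW_bval, map_one, evalW_bval_comm _ (n + 1) _ hVk, Finset.prod_range_succ, hV1, zpow_one,
      Finset.prod_eq_one (fun i hi => by rw [hV0 i (Finset.mem_range.mp hi), zpow_zero]), one_mul] at h2
    rw [← Abelianization.ker_of]
    exact h2
  refine ⟨σ, ⟨hsur, ?_, ?_⟩, ?_⟩
  · rw [hker]; exact hNc
  · rw [hker, Subgroup.zpowers_le]; exact hzcomm
  · rw [hker]
    have : NeZero m := ⟨by omega⟩
    have : IsCyclic N := Subgroup.isCyclic_zpowers z
    exact ⟨mulEquivOfCyclicCardEq (by rw [hcardN, Nat.card_eq_fintype_card]; simp [ZMod.card])⟩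

end Cfsg.Agent.Lib.Helper28
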