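import Cfsg.Agent.Lib.Helper28.Mult.G23E3Data

set_option autoImplicit false
set_option maxRecDepth 100000

namespace Cfsg.Agent.Lib.Helper28.Mult.G23E3

open Cfsg.Agent.Lib.Helper28

theorem lrel_0 : allRange (fun c => allList (fun w => L.checkRel w c) Cfsg.Agent.Lib.Helper28.Mult.G23E.W0) 0 600 = true := by decide +kernel
theorem lrel_1 : allRange (fun c => allList (fun w => L.checkRel w c) Cfsg.Agent.Lib.Helper28.Mult.G23E.W0) 600 600 = true := by decide +kernel
theorem lrel_2 : allRange (fun c => allList (fun w => L.checkRel w c) Cfsg.Agent.Lib.Helper28.Mult.G23E.W0) 1200 600 = true := by decide +kernel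
theorem lrel_3 : allRange (fun c => allList (fun w => L.checkRel w c) Cfsg.Agent.Lib.Helper28.Mult.G23E.W0) 1800 468 = true := by decide +kernel
theorem lrel_all : ∀ w ∈ Cfsg.Agent.Lib.Helper28.Mult.G23E.W0, ∀ c < L.n, L.checkRel w c = true := by
  intro w hw c hc
  have hc' : c < 2268 := hc
  by_cases h0 : c < 600
  · exact allList_iff.mp (allRange_iff.mp lrel_0 c (by omega) (by omega)) w hw
  by_cases h1 : c < 1200
  · exact allList_iff.mp (allRange_iff.mp lrel_1 c (by omega) (by omega)) w hw
  by_cases h2 : c < 1800
  · exact allList_iff.mp (allRange_iff.mp lrel_2 c (by omega) (by omega)) w hw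
  by_cases h3 : c < 2268
  · exact allList_iff.mp (allRange_iff.mp lrel_3 c (by omega) (by omega)) w hw
  omega
theorem point_ok : allBelow L.checkPoint 2268 = true := by decide +kernel
theorem tree_ok : allBelow L.checkTree 2268 = true := by decide +kernel
theorem valid : L.Valid where
  invK := by
    intro x hx
    have hx' : x < 26 := hx
    interval_cases x <;> exact ⟨by decide, rfl⟩
  point := allBelow_iff.mp point_ok
  tree := allBelow_iff.mp tree_ok

end Cfsg.Agent.Lib.Helper28.Mult.G23E3
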