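import Cfsg.Agent.Lib.Helper28.Mult.Cover

set_option autoImplicit false
set_option maxRecDepth 100000

namespace Cfsg.Agent.Lib.Helper28.Mult.G23M

open Cfsg.Agent.Lib.Helper28

def relsC : List (List ℕ) := [
  [0, 0, 0],
  [2, 2, 2],
  [4, 4, 4],
  [6, 6, 6],
  [8, 8, 8],
  [10, 10, 10],
  [12, 12, 12],
  [14, 14, 14],
  [16, 16, 16],
  [18, 18, 18],
  [20, 20, 20],
  [22, 22, 22],
  [1, 3, 0, 2],
  [1, 5, 0, 4],
  [1, 7, 0, 6],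
  [1, 9, 0, 8],
  [1, 11, 0, 10],
  [1, 13, 0, 12, 3],
  [1, 15, 0, 14],
  [1, 17, 0, 16, 2, 12, 9, 5],
  [1, 19, 0, 18, 11, 20, 14, 6],
  [1, 21, 0, 20, 10],
  [3, 5, 2, 4],
  [3, 7, 2, 6],
  [3, 9, 2, 8],
  [3, 11, 2, 10, 1],
  [3, 13, 2, 12],
  [3, 15, 2, 14, 1, 11, 6, 5],
  [3, 17, 2, 16],
  [3, 19, 2, 18, 12, 23, 17, 8],
  [3, 23, 2, 22, 12],
  [5, 7, 4, 6],
  [5, 9, 4, 8],
  [5, 11, 4, 10],
  [5, 13, 4, 12],
  [5, 15, 4, 14, 7],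
  [5, 17, 4, 16, 8],
  [5, 21, 4, 20, 11, 1, 6, 14],
  [5, 23, 4, 22, 12, 2, 9, 16],
  [7, 9, 6, 8, 5],
  [7, 11, 6, 10],
  [7, 13, 6, 12, 2, 1, 5, 9],
  [7, 15, 6, 14],
  [7, 19, 6, 18, 14],
  [7, 21, 6, 20],
  [7, 23, 6, 22, 21, 10, 14, 19],
  [9, 11, 8, 10, 1, 2, 4, 7],
  [9, 13, 8, 12],
  [9, 17, 8, 16],
  [9, 19, 8, 18, 17],
  [9, 21, 8, 20, 22, 13, 17, 19],
  [9, 23, 8, 22],
  [11, 15, 10, 14],
  [11, 17, 10, 16, 21, 23, 18, 15],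
  [11, 19, 10, 18],
  [11, 21, 10, 20],
  [11, 23, 10, 22, 21],
  [13, 15, 12, 14, 22, 20, 19, 17],
  [13, 17, 12, 16],
  [13, 19, 12, 18],
  [13, 21, 12, 20, 23],
  [13, 23, 12, 22],
  [15, 17, 14, 16, 19],
  [15, 19, 14, 18],
  [15, 21, 14, 20],
  [15, 23, 14, 22],
  [17, 19, 16, 18],
  [17, 21, 16, 20],
  [17, 23, 16, 22],
  [19, 21, 18, 20],
  [19, 23, 18, 22],
  [21, 23, 20, 22]]
def normC : List (List ℕ) := [
  [75],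
  [59],
  [103],
  [95],
  [96],
  [66],
  [84],
  [110],
  [123],
  [149],
  [137],
  [145]]
def C : Cov where
  n := 12
  rels := relsC
  norm := normC

theorem C_ok : C.OK where
  relsK := by decide +kernel
  normK := by decide +kernel
  normLen := rfl
  esum := by decide +kernel

end Cfsg.Agent.Lib.Helper28.Mult.G23M
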