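import Cfsg.Agent.Lib.Helper28.Mult.Stem
import Cfsg.Agent.Lib.Helper28.Mult.Exist2
import Cfsg.Agent.Lib.Helper28.Mult.G23M
import Cfsg.Agent.Lib.Helper28.Mult.G23E3
import Cfsg.Agent.Lib.Helper28.TCChain
import Cfsg.Agent.Lib.Helper28.Embed

/-!
# The Schur multiplier of `G₂(3)`, given the bound from the coset enumerations (helper28)

`G` is any group of order `4245696` generated by twelve elements which satisfy the relators `G23M.relsC`
(the cubes and the commutator relations of the root elements `x_r(1)` of `G₂(3)`).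
-/

set_option autoImplicit false
set_option maxRecDepth 100000

namespace Cfsg.Agent.Lib.Helper28.Mult.G23X

open Cfsg.Agent.Lib.Helper28

open Cfsg.Agent.Lib.Helper28.Mult.G23M (C C_ok)
open Cfsg.Agent.Lib.Helper28.Mult.G23E (W0 Vs)

/-- all the generator letters -/
abbrev ΛA : List ℕ := [0, 1, 2, 3, 4, 5, 6, 7, 8, 9, 10, 11, 12, 13, 14, 15, 16, 17, 18, 19, 20, 21, 22, 23]

/-- the bound given by the chain of coset enumerations -/
def Chain : Prop := ∀ {Γ : Type} [Group Γ] (g : ℕ → Γ), (∀ t, evalW (C.val g) (C.word t) = 1) →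
  Finite (Sg (C.val g) ΛA) ∧ Nat.card (Sg (C.val g) ΛA) ≤ 2268 * 5616

theorem mem_ΛA (x : ℕ) (hx : x < 12) : 2 * x ∈ ΛA := by
  interval_cases x <;> decide

section Upper

variable {G : Type} [Group G] (γ : ℕ → G)

theorem card_le (hch : Chain) (hγ : ∀ r ∈ C.rels, evalW (bval γ) r = 1)
    (hgen : Subgroup.closure (γ '' {i | i < 12}) = ⊤)
    {Γ : Type} [Group Γ] [Finite Γ] (σ : Γ →* G) (hσ : Cfsg.IsStemExtension σ) :
    Nat.card Γ ≤ 2268 * 5616 := by
  obtain ⟨g, hg, hW⟩ := Cov.exists_lift C_ok σ hσ.1 hσ.2.1 γ hγ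
  have htop : Sg (C.val g) ΛA = ⊤ := by
    apply Cfsg.Agent.Lib.Helper66.IsStemExtension.closure_eq_top hσ
    rw [eq_top_iff, ← hgen]
    apply Subgroup.closure_mono
    rintro _ ⟨x, hx, rfl⟩
    have hx12 : x < 12 := hx
    refine ⟨C.val g (2 * x), ⟨2 * x, mem_ΛA x hx12, rfl⟩, ?_⟩
    rw [Cov.val_two_mul g (show x < C.n from hx12), hg]
  obtain ⟨_, c⟩ := hch g hW
  rw [htop] at c
  rwa [Nat.card_congr Subgroup.topEquiv.toEquiv] at c

end Upper

/-! ### the presented group -/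

theorem hWk : ∀ w ∈ W0, ∀ y ∈ w, y < 2 * (12 + 1) := by decide +kernel
theorem hcomm : ∀ x < 12, [2 * 12, 2 * x, 2 * 12 + 1, 2 * x + 1] ∈ W0 := by decide +kernel
theorem hpow : List.replicate 3 (2 * 12) ∈ W0 := by decide +kernel
theorem hVs : ∀ v ∈ Vs, v ∈ W0 ∨ invW v ∈ W0 := by decide +kernel
theorem hVk : ∀ y ∈ Vs.flatten, y < 2 * (12 + 1) := by decide +kernel
theorem hV0 : ∀ i < 12, esum i Vs.flatten = 0 := by decide +kernel
theorem hV1 : esum 12 Vs.flatten = 1 := by decide +kernel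
theorem hrelW : ∀ i < 72, ∃ e < 3, C.rel i ++ List.replicate e 25 ∈ W0 := by decide +kernel
theorem hnrmW : ∀ x < 12, (C.nrm x).flatMap C.ex ∈ W0 ∨ invW ((C.nrm x).flatMap C.ex) ∈ W0 := by
  decide +kernel
theorem hzW : [1, 9, 0, 8, 25] ∈ W0 := by decide +kernel

/-- the presented triple cover -/
abbrev X : Type := CG (12 + 1) W0

/-- its generators -/
noncomputable abbrev gX : ℕ → X := CG.gen (12 + 1) W0

theorem z_central : gX 12 ∈ Subgroup.center X := CG.gen_central hcomm

theorem b25 : bval gX 25 = (gX 12)⁻¹ := rfl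

theorem rel_central (i : ℕ) : evalW (bval gX) (C.rel i) ∈ Subgroup.center X := by
  by_cases hi : i < 72
  · obtain ⟨e, _, he⟩ := hrelW i hi
    have h := CG.rel (k := 12 + 1) he
    rw [evalW_append, evalW_replicate, b25] at h
    rw [eq_inv_of_mul_eq_one_left h]
    exact Subgroup.inv_mem _ (Subgroup.pow_mem _ (Subgroup.inv_mem _ z_central) _)
  · have e : C.rel i = [] := by
      unfold Cov.rel
      rw [List.getD_eq_default _ _ (by show 72 ≤ i; omega)]
    rw [e]
    exact Subgroup.one_mem _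

theorem nrm_one (x : ℕ) : evalW (bval gX) ((C.nrm x).flatMap C.ex) = 1 := by
  by_cases hx : x < 12
  · rcases hnrmW x hx with h | h
    · exact CG.rel h
    · have h2 := CG.rel (k := 12 + 1) h
      rw [evalW_invW (bval_oinv _)] at h2
      exact inv_eq_one.mp h2
  · have e : C.nrm x = [] := by
      unfold Cov.nrm
      rw [List.getD_eq_default _ _ (by show 12 ≤ x; omega)]
    rw [e]
    rfl

theorem words_X (t : ℕ × ℕ × ℕ) : evalW (C.val gX) (C.word t) = 1 :=
  Cov.evalW_word C_ok gX rel_central nrm_one t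

theorem Sg_X : Sg (C.val gX) ΛA = ⊤ := by
  have hmem : ∀ x < 12, gX x ∈ Sg (C.val gX) ΛA := by
    intro x hx
    apply Subgroup.subset_closure
    exact ⟨2 * x, mem_ΛA x hx, Cov.val_two_mul gX (show x < C.n from hx)⟩
  rw [eq_top_iff, ← CG.closure_gen (k := 12 + 1) (W := W0), Subgroup.closure_le]
  rintro _ ⟨i, hi, rfl⟩
  have hi' : i < 12 + 1 := hi
  rcases Nat.lt_succ_iff_lt_or_eq.mp hi' with h | h
  · exact hmem i h
  · subst h
    have h2 := CG.rel (k := 12 + 1) hzW
    simp only [evalW_cons, evalW_nil, mul_one] at h2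
    have e1 : bval gX 1 = (gX 0)⁻¹ := rfl
    have e9 : bval gX 9 = (gX 4)⁻¹ := rfl
    have e0 : bval gX 0 = gX 0 := rfl
    have e8 : bval gX 8 = gX 4 := rfl
    rw [e1, e9, e0, e8, b25] at h2
    have h3 : gX 12 = (gX 0)⁻¹ * ((gX 4)⁻¹ * (gX 0 * gX 4)) := by
      have := congrArg (fun t => t * gX 12) h2
      simpa [mul_assoc] using this.symm
    show gX 12 ∈ Sg (C.val gX) ΛA
    rw [h3]
    have m0 := hmem 0 (by norm_num)
    have m4 := hmem 4 (by norm_num)
    exact Subgroup.mul_mem _ (Subgroup.inv_mem _ m0)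
      (Subgroup.mul_mem _ (Subgroup.inv_mem _ m4) (Subgroup.mul_mem _ m0 m4))

theorem X_bound (hch : Chain) : Finite X ∧ Nat.card X ≤ 2268 * 5616 := by
  obtain ⟨f, c⟩ := hch gX words_X
  rw [Sg_X] at f c
  refine ⟨Finite.of_equiv _ Subgroup.topEquiv.toEquiv, ?_⟩
  rwa [Nat.card_congr Subgroup.topEquiv.toEquiv] at c

/-! ### the map onto `G` -/

section Down

variable {G : Type} [Group G] (γ : ℕ → G)

/-- the images of the generators -/
def γ0 (i : ℕ) : G := if i < 12 then γ i else 1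

/-- forget the central letters -/
def strip (w : List ℕ) : List ℕ := w.filter (fun y => decide (y < 24))

theorem evalW_strip (w : List ℕ) : evalW (bval (γ0 γ)) w = evalW (bval γ) (strip w) := by
  induction w with
  | nil => rfl
  | cons y w ih =>
    unfold strip at ih ⊢
    rw [evalW_cons, ih, List.filter_cons]
    by_cases hy : y < 24
    · rw [if_pos (by simpa using hy), evalW_cons]
      congr 1
      unfold bval γ0
      rw [if_pos (show y / 2 < 12 by omega)]
    · rw [if_neg (by simpa using hy)]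
      have : bval (γ0 γ) y = 1 := by
        unfold bval γ0
        rw [if_neg (show ¬ y / 2 < 12 by omega)]
        split_ifs <;> simp
      rw [this, one_mul]

theorem W0_strip : ∀ w ∈ W0, strip w ∈ C.rels ∨ strip w = [] ∨ ∃ x < 12, strip w = [2 * x, 2 * x + 1] := by
  decide +kernel

theorem hγ0 (hγ : ∀ r ∈ C.rels, evalW (bval γ) r = 1) : ∀ w ∈ W0, evalW (bval (γ0 γ)) w = 1 := by
  intro w hw
  rw [evalW_strip]
  rcases W0_strip w hw with h | h | ⟨x, _, h⟩
  · exact hγ _ h
  · rw [h]; rfl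
  · rw [h, evalW_cons, evalW_cons, evalW_nil, mul_one]
    have e : 2 * x + 1 = oinv (2 * x) := by unfold oinv; rw [if_pos (by omega)]
    rw [e, bval_oinv, mul_inv_cancel]

theorem hsurj (hgen : Subgroup.closure (γ '' {i | i < 12}) = ⊤) :
    Subgroup.closure (γ0 γ '' {i | i < 12}) = ⊤ := by
  rw [eq_top_iff, ← hgen]
  apply Subgroup.closure_mono
  rintro _ ⟨x, hx, rfl⟩
  have hx12 : x < 12 := hx
  exact ⟨x, hx12, by unfold γ0; rw [if_pos hx12]⟩

end Down

/-! ### the model -/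

/-- the model -/
noncomputable def δ (i : ℕ) : Equiv.Perm ℕ := (LB.perm G23E3.valid (2 * i))⁻¹

theorem bval_δ (y : ℕ) (hy : y < 26) : bval δ y = (LB.perm G23E3.valid y)⁻¹ := by
  unfold bval δ
  by_cases hp : y % 2 = 0
  · rw [if_pos hp]
    have : 2 * (y / 2) = y := by omega
    rw [this]
  · rw [if_neg hp, inv_inv]
    have h1 : y = oinv (2 * (y / 2)) := by
      unfold oinv
      split_ifs <;> omega
    have h2 := LB.perm_inv G23E3.valid (x := 2 * (y / 2)) (by
      show 2 * (y / 2) < 26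
      omega)
    have h3 : G23E3.L.inv = oinv := rfl
    rw [h3, ← h1] at h2
    rw [h2, inv_inv]

theorem eval_δ (w : List ℕ) (hw : ∀ y ∈ w, y < 26) :
    evalW (bval δ) w = evalW (fun x => (LB.perm G23E3.valid x)⁻¹) w :=
  Prob.evalW_congr (fun y hy => bval_δ y (hw y hy))

theorem hδ : ∀ w ∈ W0, evalW (bval δ) w = 1 := by
  intro w hw
  rw [eval_δ w (hWk w hw)]
  exact LB.evalW_perm_eq_one G23E3.valid _ (hWk w hw) (G23E3.lrel_all _ hw)

theorem ne1 : ptrace G23E3.L.pt [24] 0 ≠ 0 + 1 := by decide +kernel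
theorem ne2 : ptrace G23E3.L.pt [24, 24] 0 ≠ 0 + 1 := by decide +kernel

theorem model_ne {L : LB} (V : L.Valid) (w : List ℕ) (hw : ∀ y ∈ w, y < L.K) (c : ℕ) (hc : c < L.n)
    (h : ptrace L.pt w c ≠ c + 1) : evalW (fun x => (LB.perm V x)⁻¹) w ≠ 1 := by
  intro he
  apply h
  have h1 := LB.evalW_perm V w hw c
  rw [he, inv_one, Equiv.Perm.one_apply] at h1
  rw [V.ptrace_eq w hw hc, ← h1]

theorem hord : ∀ d, d < 3 → 0 < d → δ 12 ^ d ≠ 1 := by
  intro d hd hd0 hcon
  have hd1 : d = 1 ∨ d = 2 := by omega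
  rcases hd1 with rfl | rfl
  · rw [pow_one] at hcon
    have e : evalW (bval δ) [24] = δ 12 := by
      rw [evalW_cons, evalW_nil, mul_one]; rfl
    have hl : ∀ y ∈ [24], y < 26 := by decide
    rw [eval_δ _ hl, hcon] at e
    exact model_ne G23E3.valid _ hl 0 (by decide) ne1 e
  · have e : evalW (bval δ) [24, 24] = δ 12 ^ 2 := by
      rw [evalW_cons, evalW_cons, evalW_nil, mul_one, pow_two]; rfl
    have hl : ∀ y ∈ [24, 24], y < 26 := by decide
    rw [eval_δ _ hl, hcon] at e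
    exact model_ne G23E3.valid _ hl 0 (by decide) ne2 e

/-- the Schur multiplier is cyclic of order 3 -/
theorem main_of_chain (hch : Chain) {G : Type} [Group G] [Finite G] (γ : ℕ → G)
    (hγ : ∀ r ∈ C.rels, evalW (bval γ) r = 1)
    (hgen : Subgroup.closure (γ '' {i | i < 12}) = ⊤) (hcard : Nat.card G = 4245696) :
    Cfsg.HasCyclicSchurMultiplier G 3 := by
  obtain ⟨hfin, hX⟩ := X_bound hch
  obtain ⟨σ, hstem, ⟨e⟩⟩ := CG.stem' (G := G) (n := 12) (m := 3) (W := W0) (by norm_num) hWk hcomm hpow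
    (γ0 γ) (by unfold γ0; rw [if_neg (by norm_num)]) (hγ0 γ hγ) (hsurj γ hgen) hfin
    (by rw [hcard]; exact hX) δ hδ hord Vs hVs hVk hV0 hV1
  refine Cfsg.Agent.Lib.Helper66.hasSchurMultiplier_of_card_le σ hstem e ?_
  intro Δ _ _ τ hτ
  have h1 := card_le γ hch hγ hgen τ hτ
  have h2 : Nat.card Δ = Nat.card G * Nat.card τ.ker := by
    rw [Subgroup.card_eq_card_quotient_mul_card_subgroup τ.ker,
      Nat.card_congr (QuotientGroup.quotientKerEquivOfSurjective τ hτ.1).toEquiv]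
  rw [h2, hcard] at h1
  have h3 : Nat.card (Multiplicative (ZMod 3)) = 3 := by
    rw [Nat.card_eq_fintype_card]; rfl
  rw [h3]
  have : 4245696 * Nat.card τ.ker ≤ 4245696 * 3 := by omega
  exact Nat.le_of_mul_le_mul_left this (by norm_num)

end Cfsg.Agent.Lib.Helper28.Mult.G23X
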