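import Cfsg.Agent.Lib.Helper28.Mult.G23MAData

set_option autoImplicit false
set_option maxRecDepth 100000

namespace Cfsg.Agent.Lib.Helper28.V2.G23MA

open Cfsg.Agent.Lib.Helper28

theorem chk_12 : allRange D.checkLabel 1277 13 = true := by decide +kernel
theorem chk_13 : allRange D.checkLabel 1290 16 = true := by decide +kernel
theorem chk_14 : allRange D.checkLabel 1306 40 = true := by decide +kernel
theorem chk_15 : allRange D.checkLabel 1346 16 = true := by decide +kernel
theorem chk_16 : allRange D.checkLabel 1362 23 = true := by decide +kernel
theorem chk_17 : allRange D.checkLabel 1385 32 = true := by decide +kernel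
theorem chk_18 : allRange D.checkLabel 1417 28 = true := by decide +kernel
theorem chk_19 : allRange D.checkLabel 1445 19 = true := by decide +kernel
theorem chk_20 : allRange D.checkLabel 1464 20 = true := by decide +kernel
theorem chk_21 : allRange D.checkLabel 1484 18 = true := by decide +kernel
theorem chk_22 : allRange D.checkLabel 1502 36 = true := by decide +kernel
theorem chk_23 : allRange D.checkLabel 1538 35 = true := by decide +kernel
theorem chkF_1 : ∀ c, 1277 ≤ c → c < 1573 → D.checkLabel c = true := by
  intro c h1 h2
  by_cases h12 : c < 1290
  · exact allRange_iff.mp chk_12 c (by omega) (by omega)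
  by_cases h13 : c < 1306
  · exact allRange_iff.mp chk_13 c (by omega) (by omega)
  by_cases h14 : c < 1346
  · exact allRange_iff.mp chk_14 c (by omega) (by omega)
  by_cases h15 : c < 1362
  · exact allRange_iff.mp chk_15 c (by omega) (by omega)
  by_cases h16 : c < 1385
  · exact allRange_iff.mp chk_16 c (by omega) (by omega)
  by_cases h17 : c < 1417
  · exact allRange_iff.mp chk_17 c (by omega) (by omega)
  by_cases h18 : c < 1445
  · exact allRange_iff.mp chk_18 c (by omega) (by omega)
  by_cases h19 : c < 1464
  · exact allRange_iff.mp chk_19 c (by omega) (by omega)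
  by_cases h20 : c < 1484
  · exact allRange_iff.mp chk_20 c (by omega) (by omega)
  by_cases h21 : c < 1502
  · exact allRange_iff.mp chk_21 c (by omega) (by omega)
  by_cases h22 : c < 1538
  · exact allRange_iff.mp chk_22 c (by omega) (by omega)
  by_cases h23 : c < 1573
  · exact allRange_iff.mp chk_23 c (by omega) (by omega)
  omega

end Cfsg.Agent.Lib.Helper28.V2.G23MA
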