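import Cfsg.Agent.Lib.Helper28.Mult.G23MAData

set_option autoImplicit false
set_option maxRecDepth 100000

namespace Cfsg.Agent.Lib.Helper28.V2.G23MA

open Cfsg.Agent.Lib.Helper28

theorem chk_144 : allRange D.checkLabel 5644 25 = true := by decide +kernel
theorem chk_145 : allRange D.checkLabel 5669 28 = true := by decide +kernel
theorem chk_146 : allRange D.checkLabel 5697 38 = true := by decide +kernel
theorem chk_147 : allRange D.checkLabel 5735 13 = true := by decide +kernel
theorem chk_148 : allRange D.checkLabel 5748 50 = true := by decide +kernel
theorem chk_149 : allRange D.checkLabel 5798 56 = true := by decide +kernel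
theorem chk_150 : allRange D.checkLabel 5854 27 = true := by decide +kernel
theorem chk_151 : allRange D.checkLabel 5881 10 = true := by decide +kernel
theorem chk_152 : allRange D.checkLabel 5891 12 = true := by decide +kernel
theorem chk_153 : allRange D.checkLabel 5903 11 = true := by decide +kernel
theorem chk_154 : allRange D.checkLabel 5914 4 = true := by decide +kernel
theorem chk_155 : allRange D.checkLabel 5918 14 = true := by decide +kernel
theorem chkF_12 : ∀ c, 5644 ≤ c → c < 5932 → D.checkLabel c = true := by
  intro c h1 h2
  by_cases h144 : c < 5669
  · exact allRange_iff.mp chk_144 c (by omega) (by omega)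
  by_cases h145 : c < 5697
  · exact allRange_iff.mp chk_145 c (by omega) (by omega)
  by_cases h146 : c < 5735
  · exact allRange_iff.mp chk_146 c (by omega) (by omega)
  by_cases h147 : c < 5748
  · exact allRange_iff.mp chk_147 c (by omega) (by omega)
  by_cases h148 : c < 5798
  · exact allRange_iff.mp chk_148 c (by omega) (by omega)
  by_cases h149 : c < 5854
  · exact allRange_iff.mp chk_149 c (by omega) (by omega)
  by_cases h150 : c < 5881
  · exact allRange_iff.mp chk_150 c (by omega) (by omega)
  by_cases h151 : c < 5891
  · exact allRange_iff.mp chk_151 c (by omega) (by omega)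
  by_cases h152 : c < 5903
  · exact allRange_iff.mp chk_152 c (by omega) (by omega)
  by_cases h153 : c < 5914
  · exact allRange_iff.mp chk_153 c (by omega) (by omega)
  by_cases h154 : c < 5918
  · exact allRange_iff.mp chk_154 c (by omega) (by omega)
  by_cases h155 : c < 5932
  · exact allRange_iff.mp chk_155 c (by omega) (by omega)
  omega

end Cfsg.Agent.Lib.Helper28.V2.G23MA
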