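import Cfsg.Agent.Lib.Helper28.Mult.G23MAData

set_option autoImplicit false
set_option maxRecDepth 100000

namespace Cfsg.Agent.Lib.Helper28.V2.G23MA

open Cfsg.Agent.Lib.Helper28

theorem chk_156 : allRange D.checkLabel 5932 11 = true := by decide +kernel
theorem chk_157 : allRange D.checkLabel 5943 19 = true := by decide +kernel
theorem chk_158 : allRange D.checkLabel 5962 36 = true := by decide +kernel
theorem chk_159 : allRange D.checkLabel 5998 39 = true := by decide +kernel
theorem chk_160 : allRange D.checkLabel 6037 28 = true := by decide +kernel
theorem chk_161 : allRange D.checkLabel 6065 28 = true := by decide +kernel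
theorem chk_162 : allRange D.checkLabel 6093 59 = true := by decide +kernel
theorem chk_163 : allRange D.checkLabel 6152 22 = true := by decide +kernel
theorem chk_164 : allRange D.checkLabel 6174 21 = true := by decide +kernel
theorem chk_165 : allRange D.checkLabel 6195 6 = true := by decide +kernel
theorem chk_166 : allRange D.checkLabel 6201 14 = true := by decide +kernel
theorem chk_167 : allRange D.checkLabel 6215 17 = true := by decide +kernel
theorem chkF_13 : ∀ c, 5932 ≤ c → c < 6232 → D.checkLabel c = true := by
  intro c h1 h2
  by_cases h156 : c < 5943
  · exact allRange_iff.mp chk_156 c (by omega) (by omega)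
  by_cases h157 : c < 5962
  · exact allRange_iff.mp chk_157 c (by omega) (by omega)
  by_cases h158 : c < 5998
  · exact allRange_iff.mp chk_158 c (by omega) (by omega)
  by_cases h159 : c < 6037
  · exact allRange_iff.mp chk_159 c (by omega) (by omega)
  by_cases h160 : c < 6065
  · exact allRange_iff.mp chk_160 c (by omega) (by omega)
  by_cases h161 : c < 6093
  · exact allRange_iff.mp chk_161 c (by omega) (by omega)
  by_cases h162 : c < 6152
  · exact allRange_iff.mp chk_162 c (by omega) (by omega)
  by_cases h163 : c < 6174
  · exact allRange_iff.mp chk_163 c (by omega) (by omega)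
  by_cases h164 : c < 6195
  · exact allRange_iff.mp chk_164 c (by omega) (by omega)
  by_cases h165 : c < 6201
  · exact allRange_iff.mp chk_165 c (by omega) (by omega)
  by_cases h166 : c < 6215
  · exact allRange_iff.mp chk_166 c (by omega) (by omega)
  by_cases h167 : c < 6232
  · exact allRange_iff.mp chk_167 c (by omega) (by omega)
  omega

end Cfsg.Agent.Lib.Helper28.V2.G23MA
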