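import Cfsg.Agent.Lib.Helper28.Mult.G23MAData

set_option autoImplicit false
set_option maxRecDepth 100000

namespace Cfsg.Agent.Lib.Helper28.V2.G23MA

open Cfsg.Agent.Lib.Helper28

theorem chk_168 : allRange D.checkLabel 6232 11 = true := by decide +kernel
theorem chk_169 : allRange D.checkLabel 6243 36 = true := by decide +kernel
theorem chk_170 : allRange D.checkLabel 6279 38 = true := by decide +kernel
theorem chk_171 : allRange D.checkLabel 6317 37 = true := by decide +kernel
theorem chk_172 : allRange D.checkLabel 6354 35 = true := by decide +kernel
theorem chk_173 : allRange D.checkLabel 6389 74 = true := by decide +kernel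
theorem chk_174 : allRange D.checkLabel 6463 27 = true := by decide +kernel
theorem chk_175 : allRange D.checkLabel 6490 5 = true := by decide +kernel
theorem chk_176 : allRange D.checkLabel 6495 12 = true := by decide +kernel
theorem chk_177 : allRange D.checkLabel 6507 10 = true := by decide +kernel
theorem chk_178 : allRange D.checkLabel 6517 15 = true := by decide +kernel
theorem chk_179 : allRange D.checkLabel 6532 16 = true := by decide +kernel
theorem chkF_14 : ∀ c, 6232 ≤ c → c < 6548 → D.checkLabel c = true := by
  intro c h1 h2
  by_cases h168 : c < 6243
  · exact allRange_iff.mp chk_168 c (by omega) (by omega)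
  by_cases h169 : c < 6279
  · exact allRange_iff.mp chk_169 c (by omega) (by omega)
  by_cases h170 : c < 6317
  · exact allRange_iff.mp chk_170 c (by omega) (by omega)
  by_cases h171 : c < 6354
  · exact allRange_iff.mp chk_171 c (by omega) (by omega)
  by_cases h172 : c < 6389
  · exact allRange_iff.mp chk_172 c (by omega) (by omega)
  by_cases h173 : c < 6463
  · exact allRange_iff.mp chk_173 c (by omega) (by omega)
  by_cases h174 : c < 6490
  · exact allRange_iff.mp chk_174 c (by omega) (by omega)
  by_cases h175 : c < 6495
  · exact allRange_iff.mp chk_175 c (by omega) (by omega)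
  by_cases h176 : c < 6507
  · exact allRange_iff.mp chk_176 c (by omega) (by omega)
  by_cases h177 : c < 6517
  · exact allRange_iff.mp chk_177 c (by omega) (by omega)
  by_cases h178 : c < 6532
  · exact allRange_iff.mp chk_178 c (by omega) (by omega)
  by_cases h179 : c < 6548
  · exact allRange_iff.mp chk_179 c (by omega) (by omega)
  omega

end Cfsg.Agent.Lib.Helper28.V2.G23MA
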