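import Cfsg.Agent.Lib.Helper28.Mult.G23MAData

set_option autoImplicit false
set_option maxRecDepth 100000

namespace Cfsg.Agent.Lib.Helper28.V2.G23MA

open Cfsg.Agent.Lib.Helper28

theorem chk_180 : allRange D.checkLabel 6548 29 = true := by decide +kernel
theorem chk_181 : allRange D.checkLabel 6577 46 = true := by decide +kernel
theorem chk_182 : allRange D.checkLabel 6623 35 = true := by decide +kernel
theorem chk_183 : allRange D.checkLabel 6658 46 = true := by decide +kernel
theorem chk_184 : allRange D.checkLabel 6704 61 = true := by decide +kernel
theorem chk_185 : allRange D.checkLabel 6765 32 = true := by decide +kernel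
theorem chk_186 : allRange D.checkLabel 6797 123 = true := by decide +kernel
theorem chk_187 : allRange D.checkLabel 6920 28 = true := by decide +kernel
theorem chk_188 : allRange D.checkLabel 6948 102 = true := by decide +kernel
theorem chk_189 : allRange D.checkLabel 7050 45 = true := by decide +kernel
theorem chk_190 : allRange D.checkLabel 7095 58 = true := by decide +kernel
theorem chk_191 : allRange D.checkLabel 7153 73 = true := by decide +kernel
theorem chkF_15 : ∀ c, 6548 ≤ c → c < 7226 → D.checkLabel c = true := by
  intro c h1 h2
  by_cases h180 : c < 6577
  · exact allRange_iff.mp chk_180 c (by omega) (by omega)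
  by_cases h181 : c < 6623
  · exact allRange_iff.mp chk_181 c (by omega) (by omega)
  by_cases h182 : c < 6658
  · exact allRange_iff.mp chk_182 c (by omega) (by omega)
  by_cases h183 : c < 6704
  · exact allRange_iff.mp chk_183 c (by omega) (by omega)
  by_cases h184 : c < 6765
  · exact allRange_iff.mp chk_184 c (by omega) (by omega)
  by_cases h185 : c < 6797
  · exact allRange_iff.mp chk_185 c (by omega) (by omega)
  by_cases h186 : c < 6920
  · exact allRange_iff.mp chk_186 c (by omega) (by omega)
  by_cases h187 : c < 6948
  · exact allRange_iff.mp chk_187 c (by omega) (by omega)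
  by_cases h188 : c < 7050
  · exact allRange_iff.mp chk_188 c (by omega) (by omega)
  by_cases h189 : c < 7095
  · exact allRange_iff.mp chk_189 c (by omega) (by omega)
  by_cases h190 : c < 7153
  · exact allRange_iff.mp chk_190 c (by omega) (by omega)
  by_cases h191 : c < 7226
  · exact allRange_iff.mp chk_191 c (by omega) (by omega)
  omega

end Cfsg.Agent.Lib.Helper28.V2.G23MA
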