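import Cfsg.Agent.Lib.Helper28.Mult.G23MAData

set_option autoImplicit false
set_option maxRecDepth 100000

namespace Cfsg.Agent.Lib.Helper28.V2.G23MA

open Cfsg.Agent.Lib.Helper28

theorem chk_192 : allRange D.checkLabel 7226 29 = true := by decide +kernel
theorem chk_193 : allRange D.checkLabel 7255 43 = true := by decide +kernel
theorem chk_194 : allRange D.checkLabel 7298 40 = true := by decide +kernel
theorem chk_195 : allRange D.checkLabel 7338 58 = true := by decide +kernel
theorem chk_196 : allRange D.checkLabel 7396 18 = true := by decide +kernel
theorem chk_197 : allRange D.checkLabel 7414 30 = true := by decide +kernel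
theorem chk_198 : allRange D.checkLabel 7444 18 = true := by decide +kernel
theorem chk_199 : allRange D.checkLabel 7462 41 = true := by decide +kernel
theorem chk_200 : allRange D.checkLabel 7503 60 = true := by decide +kernel
theorem chk_201 : allRange D.checkLabel 7563 37 = true := by decide +kernel
theorem chk_202 : allRange D.checkLabel 7600 34 = true := by decide +kernel
theorem chk_203 : allRange D.checkLabel 7634 18 = true := by decide +kernel
theorem chkF_16 : ∀ c, 7226 ≤ c → c < 7652 → D.checkLabel c = true := by
  intro c h1 h2
  by_cases h192 : c < 7255
  · exact allRange_iff.mp chk_192 c (by omega) (by omega)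
  by_cases h193 : c < 7298
  · exact allRange_iff.mp chk_193 c (by omega) (by omega)
  by_cases h194 : c < 7338
  · exact allRange_iff.mp chk_194 c (by omega) (by omega)
  by_cases h195 : c < 7396
  · exact allRange_iff.mp chk_195 c (by omega) (by omega)
  by_cases h196 : c < 7414
  · exact allRange_iff.mp chk_196 c (by omega) (by omega)
  by_cases h197 : c < 7444
  · exact allRange_iff.mp chk_197 c (by omega) (by omega)
  by_cases h198 : c < 7462
  · exact allRange_iff.mp chk_198 c (by omega) (by omega)
  by_cases h199 : c < 7503
  · exact allRange_iff.mp chk_199 c (by omega) (by omega)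
  by_cases h200 : c < 7563
  · exact allRange_iff.mp chk_200 c (by omega) (by omega)
  by_cases h201 : c < 7600
  · exact allRange_iff.mp chk_201 c (by omega) (by omega)
  by_cases h202 : c < 7634
  · exact allRange_iff.mp chk_202 c (by omega) (by omega)
  by_cases h203 : c < 7652
  · exact allRange_iff.mp chk_203 c (by omega) (by omega)
  omega

end Cfsg.Agent.Lib.Helper28.V2.G23MA
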