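import Cfsg.Agent.Lib.Helper28.Mult.G23MAData

set_option autoImplicit false
set_option maxRecDepth 100000

namespace Cfsg.Agent.Lib.Helper28.V2.G23MA

open Cfsg.Agent.Lib.Helper28

theorem chk_204 : allRange D.checkLabel 7652 25 = true := by decide +kernel
theorem chk_205 : allRange D.checkLabel 7677 31 = true := by decide +kernel
theorem chk_206 : allRange D.checkLabel 7708 38 = true := by decide +kernel
theorem chk_207 : allRange D.checkLabel 7746 50 = true := by decide +kernel
theorem chk_208 : allRange D.checkLabel 7796 30 = true := by decide +kernel
theorem chk_209 : allRange D.checkLabel 7826 23 = true := by decide +kernel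
theorem chk_210 : allRange D.checkLabel 7849 42 = true := by decide +kernel
theorem chk_211 : allRange D.checkLabel 7891 48 = true := by decide +kernel
theorem chk_212 : allRange D.checkLabel 7939 38 = true := by decide +kernel
theorem chk_213 : allRange D.checkLabel 7977 10 = true := by decide +kernel
theorem chk_214 : allRange D.checkLabel 7987 37 = true := by decide +kernel
theorem chk_215 : allRange D.checkLabel 8024 33 = true := by decide +kernel
theorem chkF_17 : ∀ c, 7652 ≤ c → c < 8057 → D.checkLabel c = true := by
  intro c h1 h2
  by_cases h204 : c < 7677
  · exact allRange_iff.mp chk_204 c (by omega) (by omega)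
  by_cases h205 : c < 7708
  · exact allRange_iff.mp chk_205 c (by omega) (by omega)
  by_cases h206 : c < 7746
  · exact allRange_iff.mp chk_206 c (by omega) (by omega)
  by_cases h207 : c < 7796
  · exact allRange_iff.mp chk_207 c (by omega) (by omega)
  by_cases h208 : c < 7826
  · exact allRange_iff.mp chk_208 c (by omega) (by omega)
  by_cases h209 : c < 7849
  · exact allRange_iff.mp chk_209 c (by omega) (by omega)
  by_cases h210 : c < 7891
  · exact allRange_iff.mp chk_210 c (by omega) (by omega)
  by_cases h211 : c < 7939
  · exact allRange_iff.mp chk_211 c (by omega) (by omega)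
  by_cases h212 : c < 7977
  · exact allRange_iff.mp chk_212 c (by omega) (by omega)
  by_cases h213 : c < 7987
  · exact allRange_iff.mp chk_213 c (by omega) (by omega)
  by_cases h214 : c < 8024
  · exact allRange_iff.mp chk_214 c (by omega) (by omega)
  by_cases h215 : c < 8057
  · exact allRange_iff.mp chk_215 c (by omega) (by omega)
  omega

end Cfsg.Agent.Lib.Helper28.V2.G23MA
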