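import Cfsg.Agent.Lib.Helper28.Mult.G23MAData

set_option autoImplicit false
set_option maxRecDepth 100000

namespace Cfsg.Agent.Lib.Helper28.V2.G23MA

open Cfsg.Agent.Lib.Helper28

theorem chk_216 : allRange D.checkLabel 8057 83 = true := by decide +kernel
theorem chk_217 : allRange D.checkLabel 8140 64 = true := by decide +kernel
theorem chk_218 : allRange D.checkLabel 8204 23 = true := by decide +kernel
theorem chk_219 : allRange D.checkLabel 8227 32 = true := by decide +kernel
theorem chk_220 : allRange D.checkLabel 8259 15 = true := by decide +kernel
theorem chk_221 : allRange D.checkLabel 8274 24 = true := by decide +kernel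
theorem chk_222 : allRange D.checkLabel 8298 78 = true := by decide +kernel
theorem chk_223 : allRange D.checkLabel 8376 55 = true := by decide +kernel
theorem chk_224 : allRange D.checkLabel 8431 29 = true := by decide +kernel
theorem chk_225 : allRange D.checkLabel 8460 22 = true := by decide +kernel
theorem chk_226 : allRange D.checkLabel 8482 32 = true := by decide +kernel
theorem chk_227 : allRange D.checkLabel 8514 15 = true := by decide +kernel
theorem chkF_18 : ∀ c, 8057 ≤ c → c < 8529 → D.checkLabel c = true := by
  intro c h1 h2
  by_cases h216 : c < 8140
  · exact allRange_iff.mp chk_216 c (by omega) (by omega)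
  by_cases h217 : c < 8204
  · exact allRange_iff.mp chk_217 c (by omega) (by omega)
  by_cases h218 : c < 8227
  · exact allRange_iff.mp chk_218 c (by omega) (by omega)
  by_cases h219 : c < 8259
  · exact allRange_iff.mp chk_219 c (by omega) (by omega)
  by_cases h220 : c < 8274
  · exact allRange_iff.mp chk_220 c (by omega) (by omega)
  by_cases h221 : c < 8298
  · exact allRange_iff.mp chk_221 c (by omega) (by omega)
  by_cases h222 : c < 8376
  · exact allRange_iff.mp chk_222 c (by omega) (by omega)
  by_cases h223 : c < 8431
  · exact allRange_iff.mp chk_223 c (by omega) (by omega)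
  by_cases h224 : c < 8460
  · exact allRange_iff.mp chk_224 c (by omega) (by omega)
  by_cases h225 : c < 8482
  · exact allRange_iff.mp chk_225 c (by omega) (by omega)
  by_cases h226 : c < 8514
  · exact allRange_iff.mp chk_226 c (by omega) (by omega)
  by_cases h227 : c < 8529
  · exact allRange_iff.mp chk_227 c (by omega) (by omega)
  omega

end Cfsg.Agent.Lib.Helper28.V2.G23MA
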