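import Cfsg.Agent.Lib.Helper28.Mult.G23MAData

set_option autoImplicit false
set_option maxRecDepth 100000

namespace Cfsg.Agent.Lib.Helper28.V2.G23MA

open Cfsg.Agent.Lib.Helper28

theorem chk_228 : allRange D.checkLabel 8529 20 = true := by decide +kernel
theorem chk_229 : allRange D.checkLabel 8549 77 = true := by decide +kernel
theorem chk_230 : allRange D.checkLabel 8626 61 = true := by decide +kernel
theorem chk_231 : allRange D.checkLabel 8687 43 = true := by decide +kernel
theorem chk_232 : allRange D.checkLabel 8730 25 = true := by decide +kernel
theorem chk_233 : allRange D.checkLabel 8755 16 = true := by decide +kernel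
theorem chk_234 : allRange D.checkLabel 8771 26 = true := by decide +kernel
theorem chk_235 : allRange D.checkLabel 8797 22 = true := by decide +kernel
theorem chk_236 : allRange D.checkLabel 8819 67 = true := by decide +kernel
theorem chk_237 : allRange D.checkLabel 8886 75 = true := by decide +kernel
theorem chk_238 : allRange D.checkLabel 8961 26 = true := by decide +kernel
theorem chk_239 : allRange D.checkLabel 8987 23 = true := by decide +kernel
theorem chkF_19 : ∀ c, 8529 ≤ c → c < 9010 → D.checkLabel c = true := by
  intro c h1 h2
  by_cases h228 : c < 8549
  · exact allRange_iff.mp chk_228 c (by omega) (by omega)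
  by_cases h229 : c < 8626
  · exact allRange_iff.mp chk_229 c (by omega) (by omega)
  by_cases h230 : c < 8687
  · exact allRange_iff.mp chk_230 c (by omega) (by omega)
  by_cases h231 : c < 8730
  · exact allRange_iff.mp chk_231 c (by omega) (by omega)
  by_cases h232 : c < 8755
  · exact allRange_iff.mp chk_232 c (by omega) (by omega)
  by_cases h233 : c < 8771
  · exact allRange_iff.mp chk_233 c (by omega) (by omega)
  by_cases h234 : c < 8797
  · exact allRange_iff.mp chk_234 c (by omega) (by omega)
  by_cases h235 : c < 8819
  · exact allRange_iff.mp chk_235 c (by omega) (by omega)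
  by_cases h236 : c < 8886
  · exact allRange_iff.mp chk_236 c (by omega) (by omega)
  by_cases h237 : c < 8961
  · exact allRange_iff.mp chk_237 c (by omega) (by omega)
  by_cases h238 : c < 8987
  · exact allRange_iff.mp chk_238 c (by omega) (by omega)
  by_cases h239 : c < 9010
  · exact allRange_iff.mp chk_239 c (by omega) (by omega)
  omega

end Cfsg.Agent.Lib.Helper28.V2.G23MA
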