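import Cfsg.Agent.Lib.Helper28.Mult.G23MAData

set_option autoImplicit false
set_option maxRecDepth 100000

namespace Cfsg.Agent.Lib.Helper28.V2.G23MA

open Cfsg.Agent.Lib.Helper28

theorem chk_240 : allRange D.checkLabel 9010 22 = true := by decide +kernel
theorem chk_241 : allRange D.checkLabel 9032 43 = true := by decide +kernel
theorem chk_242 : allRange D.checkLabel 9075 83 = true := by decide +kernel
theorem chk_243 : allRange D.checkLabel 9158 41 = true := by decide +kernel
theorem chk_244 : allRange D.checkLabel 9199 74 = true := by decide +kernel
theorem chk_245 : allRange D.checkLabel 9273 61 = true := by decide +kernel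
theorem chk_246 : allRange D.checkLabel 9334 55 = true := by decide +kernel
theorem chk_247 : allRange D.checkLabel 9389 51 = true := by decide +kernel
theorem chk_248 : allRange D.checkLabel 9440 7 = true := by decide +kernel
theorem chk_249 : allRange D.checkLabel 9447 11 = true := by decide +kernel
theorem chk_250 : allRange D.checkLabel 9458 12 = true := by decide +kernel
theorem chk_251 : allRange D.checkLabel 9470 18 = true := by decide +kernel
theorem chkF_20 : ∀ c, 9010 ≤ c → c < 9488 → D.checkLabel c = true := by
  intro c h1 h2
  by_cases h240 : c < 9032
  · exact allRange_iff.mp chk_240 c (by omega) (by omega)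
  by_cases h241 : c < 9075
  · exact allRange_iff.mp chk_241 c (by omega) (by omega)
  by_cases h242 : c < 9158
  · exact allRange_iff.mp chk_242 c (by omega) (by omega)
  by_cases h243 : c < 9199
  · exact allRange_iff.mp chk_243 c (by omega) (by omega)
  by_cases h244 : c < 9273
  · exact allRange_iff.mp chk_244 c (by omega) (by omega)
  by_cases h245 : c < 9334
  · exact allRange_iff.mp chk_245 c (by omega) (by omega)
  by_cases h246 : c < 9389
  · exact allRange_iff.mp chk_246 c (by omega) (by omega)
  by_cases h247 : c < 9440
  · exact allRange_iff.mp chk_247 c (by omega) (by omega)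
  by_cases h248 : c < 9447
  · exact allRange_iff.mp chk_248 c (by omega) (by omega)
  by_cases h249 : c < 9458
  · exact allRange_iff.mp chk_249 c (by omega) (by omega)
  by_cases h250 : c < 9470
  · exact allRange_iff.mp chk_250 c (by omega) (by omega)
  by_cases h251 : c < 9488
  · exact allRange_iff.mp chk_251 c (by omega) (by omega)
  omega

end Cfsg.Agent.Lib.Helper28.V2.G23MA
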