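import Cfsg.Agent.Lib.Helper28.Mult.G23MAData

set_option autoImplicit false
set_option maxRecDepth 100000

namespace Cfsg.Agent.Lib.Helper28.V2.G23MA

open Cfsg.Agent.Lib.Helper28

theorem chk_252 : allRange D.checkLabel 9488 20 = true := by decide +kernel
theorem chk_253 : allRange D.checkLabel 9508 41 = true := by decide +kernel
theorem chk_254 : allRange D.checkLabel 9549 52 = true := by decide +kernel
theorem chk_255 : allRange D.checkLabel 9601 67 = true := by decide +kernel
theorem chk_256 : allRange D.checkLabel 9668 26 = true := by decide +kernel
theorem chk_257 : allRange D.checkLabel 9694 3 = true := by decide +kernel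
theorem chk_258 : allRange D.checkLabel 9697 14 = true := by decide +kernel
theorem chk_259 : allRange D.checkLabel 9711 15 = true := by decide +kernel
theorem chk_260 : allRange D.checkLabel 9726 14 = true := by decide +kernel
theorem chk_261 : allRange D.checkLabel 9740 14 = true := by decide +kernel
theorem chk_262 : allRange D.checkLabel 9754 42 = true := by decide +kernel
theorem chk_263 : allRange D.checkLabel 9796 48 = true := by decide +kernel
theorem chkF_21 : ∀ c, 9488 ≤ c → c < 9844 → D.checkLabel c = true := by
  intro c h1 h2
  by_cases h252 : c < 9508
  · exact allRange_iff.mp chk_252 c (by omega) (by omega)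
  by_cases h253 : c < 9549
  · exact allRange_iff.mp chk_253 c (by omega) (by omega)
  by_cases h254 : c < 9601
  · exact allRange_iff.mp chk_254 c (by omega) (by omega)
  by_cases h255 : c < 9668
  · exact allRange_iff.mp chk_255 c (by omega) (by omega)
  by_cases h256 : c < 9694
  · exact allRange_iff.mp chk_256 c (by omega) (by omega)
  by_cases h257 : c < 9697
  · exact allRange_iff.mp chk_257 c (by omega) (by omega)
  by_cases h258 : c < 9711
  · exact allRange_iff.mp chk_258 c (by omega) (by omega)
  by_cases h259 : c < 9726
  · exact allRange_iff.mp chk_259 c (by omega) (by omega)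
  by_cases h260 : c < 9740
  · exact allRange_iff.mp chk_260 c (by omega) (by omega)
  by_cases h261 : c < 9754
  · exact allRange_iff.mp chk_261 c (by omega) (by omega)
  by_cases h262 : c < 9796
  · exact allRange_iff.mp chk_262 c (by omega) (by omega)
  by_cases h263 : c < 9844
  · exact allRange_iff.mp chk_263 c (by omega) (by omega)
  omega

end Cfsg.Agent.Lib.Helper28.V2.G23MA
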