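import Cfsg.Agent.Lib.Helper28.Mult.G23MAData

set_option autoImplicit false
set_option maxRecDepth 100000

namespace Cfsg.Agent.Lib.Helper28.V2.G23MA

open Cfsg.Agent.Lib.Helper28

theorem chk_276 : allRange D.checkLabel 10211 18 = true := by decide +kernel
theorem chk_277 : allRange D.checkLabel 10229 49 = true := by decide +kernel
theorem chk_278 : allRange D.checkLabel 10278 44 = true := by decide +kernel
theorem chk_279 : allRange D.checkLabel 10322 104 = true := by decide +kernel
theorem chk_280 : allRange D.checkLabel 10426 36 = true := by decide +kernel
theorem chk_281 : allRange D.checkLabel 10462 98 = true := by decide +kernel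
theorem chk_282 : allRange D.checkLabel 10560 32 = true := by decide +kernel
theorem chk_283 : allRange D.checkLabel 10592 58 = true := by decide +kernel
theorem chk_284 : allRange D.checkLabel 10650 83 = true := by decide +kernel
theorem chk_285 : allRange D.checkLabel 10733 130 = true := by decide +kernel
theorem chk_286 : allRange D.checkLabel 10863 17 = true := by decide +kernel
theorem chk_287 : allRange D.checkLabel 10880 62 = true := by decide +kernel
theorem chkF_23 : ∀ c, 10211 ≤ c → c < 10942 → D.checkLabel c = true := by
  intro c h1 h2
  by_cases h276 : c < 10229
  · exact allRange_iff.mp chk_276 c (by omega) (by omega)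
  by_cases h277 : c < 10278
  · exact allRange_iff.mp chk_277 c (by omega) (by omega)
  by_cases h278 : c < 10322
  · exact allRange_iff.mp chk_278 c (by omega) (by omega)
  by_cases h279 : c < 10426
  · exact allRange_iff.mp chk_279 c (by omega) (by omega)
  by_cases h280 : c < 10462
  · exact allRange_iff.mp chk_280 c (by omega) (by omega)
  by_cases h281 : c < 10560
  · exact allRange_iff.mp chk_281 c (by omega) (by omega)
  by_cases h282 : c < 10592
  · exact allRange_iff.mp chk_282 c (by omega) (by omega)
  by_cases h283 : c < 10650
  · exact allRange_iff.mp chk_283 c (by omega) (by omega)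
  by_cases h284 : c < 10733
  · exact allRange_iff.mp chk_284 c (by omega) (by omega)
  by_cases h285 : c < 10863
  · exact allRange_iff.mp chk_285 c (by omega) (by omega)
  by_cases h286 : c < 10880
  · exact allRange_iff.mp chk_286 c (by omega) (by omega)
  by_cases h287 : c < 10942
  · exact allRange_iff.mp chk_287 c (by omega) (by omega)
  omega

end Cfsg.Agent.Lib.Helper28.V2.G23MA
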