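import Cfsg.Agent.Lib.Helper28.Mult.G23MAData

set_option autoImplicit false
set_option maxRecDepth 100000

namespace Cfsg.Agent.Lib.Helper28.V2.G23MA

open Cfsg.Agent.Lib.Helper28

theorem chk_288 : allRange D.checkLabel 10942 67 = true := by decide +kernel
theorem chk_289 : allRange D.checkLabel 11009 39 = true := by decide +kernel
theorem chk_290 : allRange D.checkLabel 11048 11 = true := by decide +kernel
theorem chk_291 : allRange D.checkLabel 11059 31 = true := by decide +kernel
theorem chk_292 : allRange D.checkLabel 11090 11 = true := by decide +kernel
theorem chk_293 : allRange D.checkLabel 11101 52 = true := by decide +kernel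
theorem chk_294 : allRange D.checkLabel 11153 65 = true := by decide +kernel
theorem chk_295 : allRange D.checkLabel 11218 41 = true := by decide +kernel
theorem chk_296 : allRange D.checkLabel 11259 12 = true := by decide +kernel
theorem chk_297 : allRange D.checkLabel 11271 23 = true := by decide +kernel
theorem chk_298 : allRange D.checkLabel 11294 48 = true := by decide +kernel
theorem chk_299 : allRange D.checkLabel 11342 50 = true := by decide +kernel
theorem chkF_24 : ∀ c, 10942 ≤ c → c < 11392 → D.checkLabel c = true := by
  intro c h1 h2
  by_cases h288 : c < 11009
  · exact allRange_iff.mp chk_288 c (by omega) (by omega)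
  by_cases h289 : c < 11048
  · exact allRange_iff.mp chk_289 c (by omega) (by omega)
  by_cases h290 : c < 11059
  · exact allRange_iff.mp chk_290 c (by omega) (by omega)
  by_cases h291 : c < 11090
  · exact allRange_iff.mp chk_291 c (by omega) (by omega)
  by_cases h292 : c < 11101
  · exact allRange_iff.mp chk_292 c (by omega) (by omega)
  by_cases h293 : c < 11153
  · exact allRange_iff.mp chk_293 c (by omega) (by omega)
  by_cases h294 : c < 11218
  · exact allRange_iff.mp chk_294 c (by omega) (by omega)
  by_cases h295 : c < 11259
  · exact allRange_iff.mp chk_295 c (by omega) (by omega)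
  by_cases h296 : c < 11271
  · exact allRange_iff.mp chk_296 c (by omega) (by omega)
  by_cases h297 : c < 11294
  · exact allRange_iff.mp chk_297 c (by omega) (by omega)
  by_cases h298 : c < 11342
  · exact allRange_iff.mp chk_298 c (by omega) (by omega)
  by_cases h299 : c < 11392
  · exact allRange_iff.mp chk_299 c (by omega) (by omega)
  omega

end Cfsg.Agent.Lib.Helper28.V2.G23MA
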