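import Cfsg.Agent.Lib.Helper28.Mult.G23MAData

set_option autoImplicit false
set_option maxRecDepth 100000

namespace Cfsg.Agent.Lib.Helper28.V2.G23MA

open Cfsg.Agent.Lib.Helper28

theorem chk_300 : allRange D.checkLabel 11392 47 = true := by decide +kernel
theorem chk_301 : allRange D.checkLabel 11439 17 = true := by decide +kernel
theorem chk_302 : allRange D.checkLabel 11456 39 = true := by decide +kernel
theorem chk_303 : allRange D.checkLabel 11495 60 = true := by decide +kernel
theorem chk_304 : allRange D.checkLabel 11555 34 = true := by decide +kernel
theorem chk_305 : allRange D.checkLabel 11589 19 = true := by decide +kernel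
theorem chk_306 : allRange D.checkLabel 11608 87 = true := by decide +kernel
theorem chk_307 : allRange D.checkLabel 11695 70 = true := by decide +kernel
theorem chk_308 : allRange D.checkLabel 11765 28 = true := by decide +kernel
theorem chk_309 : allRange D.checkLabel 11793 25 = true := by decide +kernel
theorem chk_310 : allRange D.checkLabel 11818 33 = true := by decide +kernel
theorem chk_311 : allRange D.checkLabel 11851 84 = true := by decide +kernel
theorem chkF_25 : ∀ c, 11392 ≤ c → c < 11935 → D.checkLabel c = true := by
  intro c h1 h2
  by_cases h300 : c < 11439
  · exact allRange_iff.mp chk_300 c (by omega) (by omega)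
  by_cases h301 : c < 11456
  · exact allRange_iff.mp chk_301 c (by omega) (by omega)
  by_cases h302 : c < 11495
  · exact allRange_iff.mp chk_302 c (by omega) (by omega)
  by_cases h303 : c < 11555
  · exact allRange_iff.mp chk_303 c (by omega) (by omega)
  by_cases h304 : c < 11589
  · exact allRange_iff.mp chk_304 c (by omega) (by omega)
  by_cases h305 : c < 11608
  · exact allRange_iff.mp chk_305 c (by omega) (by omega)
  by_cases h306 : c < 11695
  · exact allRange_iff.mp chk_306 c (by omega) (by omega)
  by_cases h307 : c < 11765
  · exact allRange_iff.mp chk_307 c (by omega) (by omega)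
  by_cases h308 : c < 11793
  · exact allRange_iff.mp chk_308 c (by omega) (by omega)
  by_cases h309 : c < 11818
  · exact allRange_iff.mp chk_309 c (by omega) (by omega)
  by_cases h310 : c < 11851
  · exact allRange_iff.mp chk_310 c (by omega) (by omega)
  by_cases h311 : c < 11935
  · exact allRange_iff.mp chk_311 c (by omega) (by omega)
  omega

end Cfsg.Agent.Lib.Helper28.V2.G23MA
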