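import Cfsg.Agent.Lib.Helper28.Mult.G23MAData

set_option autoImplicit false
set_option maxRecDepth 100000

namespace Cfsg.Agent.Lib.Helper28.V2.G23MA

open Cfsg.Agent.Lib.Helper28

theorem chk_312 : allRange D.checkLabel 11935 58 = true := by decide +kernel
theorem chk_313 : allRange D.checkLabel 11993 61 = true := by decide +kernel
theorem chk_314 : allRange D.checkLabel 12054 29 = true := by decide +kernel
theorem chk_315 : allRange D.checkLabel 12083 64 = true := by decide +kernel
theorem chk_316 : allRange D.checkLabel 12147 188 = true := by decide +kernel
theorem chk_317 : allRange D.checkLabel 12335 89 = true := by decide +kernel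
theorem chk_318 : allRange D.checkLabel 12424 24 = true := by decide +kernel
theorem chk_319 : allRange D.checkLabel 12448 33 = true := by decide +kernel
theorem chk_320 : allRange D.checkLabel 12481 36 = true := by decide +kernel
theorem chk_321 : allRange D.checkLabel 12517 86 = true := by decide +kernel
theorem chk_322 : allRange D.checkLabel 12603 102 = true := by decide +kernel
theorem chk_323 : allRange D.checkLabel 12705 15 = true := by decide +kernel
theorem chkF_26 : ∀ c, 11935 ≤ c → c < 12720 → D.checkLabel c = true := by
  intro c h1 h2
  by_cases h312 : c < 11993
  · exact allRange_iff.mp chk_312 c (by omega) (by omega)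
  by_cases h313 : c < 12054
  · exact allRange_iff.mp chk_313 c (by omega) (by omega)
  by_cases h314 : c < 12083
  · exact allRange_iff.mp chk_314 c (by omega) (by omega)
  by_cases h315 : c < 12147
  · exact allRange_iff.mp chk_315 c (by omega) (by omega)
  by_cases h316 : c < 12335
  · exact allRange_iff.mp chk_316 c (by omega) (by omega)
  by_cases h317 : c < 12424
  · exact allRange_iff.mp chk_317 c (by omega) (by omega)
  by_cases h318 : c < 12448
  · exact allRange_iff.mp chk_318 c (by omega) (by omega)
  by_cases h319 : c < 12481
  · exact allRange_iff.mp chk_319 c (by omega) (by omega)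
  by_cases h320 : c < 12517
  · exact allRange_iff.mp chk_320 c (by omega) (by omega)
  by_cases h321 : c < 12603
  · exact allRange_iff.mp chk_321 c (by omega) (by omega)
  by_cases h322 : c < 12705
  · exact allRange_iff.mp chk_322 c (by omega) (by omega)
  by_cases h323 : c < 12720
  · exact allRange_iff.mp chk_323 c (by omega) (by omega)
  omega

end Cfsg.Agent.Lib.Helper28.V2.G23MA
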