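import Cfsg.Agent.Lib.Helper28.Mult.G23MAData

set_option autoImplicit false
set_option maxRecDepth 100000

namespace Cfsg.Agent.Lib.Helper28.V2.G23MA

open Cfsg.Agent.Lib.Helper28

theorem chk_324 : allRange D.checkLabel 12720 28 = true := by decide +kernel
theorem chk_325 : allRange D.checkLabel 12748 24 = true := by decide +kernel
theorem chk_326 : allRange D.checkLabel 12772 54 = true := by decide +kernel
theorem chk_327 : allRange D.checkLabel 12826 58 = true := by decide +kernel
theorem chk_328 : allRange D.checkLabel 12884 7 = true := by decide +kernel
theorem chk_329 : allRange D.checkLabel 12891 22 = true := by decide +kernel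
theorem chk_330 : allRange D.checkLabel 12913 38 = true := by decide +kernel
theorem chk_331 : allRange D.checkLabel 12951 47 = true := by decide +kernel
theorem chk_332 : allRange D.checkLabel 12998 20 = true := by decide +kernel
theorem chk_333 : allRange D.checkLabel 13018 45 = true := by decide +kernel
theorem chk_334 : allRange D.checkLabel 13063 56 = true := by decide +kernel
theorem chk_335 : allRange D.checkLabel 13119 21 = true := by decide +kernel
theorem chkF_27 : ∀ c, 12720 ≤ c → c < 13140 → D.checkLabel c = true := by
  intro c h1 h2
  by_cases h324 : c < 12748
  · exact allRange_iff.mp chk_324 c (by omega) (by omega)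
  by_cases h325 : c < 12772
  · exact allRange_iff.mp chk_325 c (by omega) (by omega)
  by_cases h326 : c < 12826
  · exact allRange_iff.mp chk_326 c (by omega) (by omega)
  by_cases h327 : c < 12884
  · exact allRange_iff.mp chk_327 c (by omega) (by omega)
  by_cases h328 : c < 12891
  · exact allRange_iff.mp chk_328 c (by omega) (by omega)
  by_cases h329 : c < 12913
  · exact allRange_iff.mp chk_329 c (by omega) (by omega)
  by_cases h330 : c < 12951
  · exact allRange_iff.mp chk_330 c (by omega) (by omega)
  by_cases h331 : c < 12998
  · exact allRange_iff.mp chk_331 c (by omega) (by omega)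
  by_cases h332 : c < 13018
  · exact allRange_iff.mp chk_332 c (by omega) (by omega)
  by_cases h333 : c < 13063
  · exact allRange_iff.mp chk_333 c (by omega) (by omega)
  by_cases h334 : c < 13119
  · exact allRange_iff.mp chk_334 c (by omega) (by omega)
  by_cases h335 : c < 13140
  · exact allRange_iff.mp chk_335 c (by omega) (by omega)
  omega

end Cfsg.Agent.Lib.Helper28.V2.G23MA
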