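import Cfsg.Agent.Lib.Helper28.Mult.G23MAData

set_option autoImplicit false
set_option maxRecDepth 100000

namespace Cfsg.Agent.Lib.Helper28.V2.G23MA

open Cfsg.Agent.Lib.Helper28

theorem chk_336 : allRange D.checkLabel 13140 44 = true := by decide +kernel
theorem chk_337 : allRange D.checkLabel 13184 51 = true := by decide +kernel
theorem chk_338 : allRange D.checkLabel 13235 20 = true := by decide +kernel
theorem chk_339 : allRange D.checkLabel 13255 48 = true := by decide +kernel
theorem chk_340 : allRange D.checkLabel 13303 5 = true := by decide +kernel
theorem chk_341 : allRange D.checkLabel 13308 8 = true := by decide +kernel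
theorem chk_342 : allRange D.checkLabel 13316 6 = true := by decide +kernel
theorem chk_343 : allRange D.checkLabel 13322 5 = true := by decide +kernel
theorem chk_344 : allRange D.checkLabel 13327 6 = true := by decide +kernel
theorem chk_345 : allRange D.checkLabel 13333 4 = true := by decide +kernel
theorem chk_346 : allRange D.checkLabel 13337 6 = true := by decide +kernel
theorem chk_347 : allRange D.checkLabel 13343 7 = true := by decide +kernel
theorem chkF_28 : ∀ c, 13140 ≤ c → c < 13350 → D.checkLabel c = true := by
  intro c h1 h2
  by_cases h336 : c < 13184
  · exact allRange_iff.mp chk_336 c (by omega) (by omega)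
  by_cases h337 : c < 13235
  · exact allRange_iff.mp chk_337 c (by omega) (by omega)
  by_cases h338 : c < 13255
  · exact allRange_iff.mp chk_338 c (by omega) (by omega)
  by_cases h339 : c < 13303
  · exact allRange_iff.mp chk_339 c (by omega) (by omega)
  by_cases h340 : c < 13308
  · exact allRange_iff.mp chk_340 c (by omega) (by omega)
  by_cases h341 : c < 13316
  · exact allRange_iff.mp chk_341 c (by omega) (by omega)
  by_cases h342 : c < 13322
  · exact allRange_iff.mp chk_342 c (by omega) (by omega)
  by_cases h343 : c < 13327
  · exact allRange_iff.mp chk_343 c (by omega) (by omega)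
  by_cases h344 : c < 13333
  · exact allRange_iff.mp chk_344 c (by omega) (by omega)
  by_cases h345 : c < 13337
  · exact allRange_iff.mp chk_345 c (by omega) (by omega)
  by_cases h346 : c < 13343
  · exact allRange_iff.mp chk_346 c (by omega) (by omega)
  by_cases h347 : c < 13350
  · exact allRange_iff.mp chk_347 c (by omega) (by omega)
  omega

end Cfsg.Agent.Lib.Helper28.V2.G23MA
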