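import Cfsg.Agent.Lib.Helper28.Mult.G23MAData

set_option autoImplicit false
set_option maxRecDepth 100000

namespace Cfsg.Agent.Lib.Helper28.V2.G23MA

open Cfsg.Agent.Lib.Helper28

theorem chk_348 : allRange D.checkLabel 13350 7 = true := by decide +kernel
theorem chk_349 : allRange D.checkLabel 13357 7 = true := by decide +kernel
theorem chk_350 : allRange D.checkLabel 13364 5 = true := by decide +kernel
theorem chk_351 : allRange D.checkLabel 13369 6 = true := by decide +kernel
theorem chk_352 : allRange D.checkLabel 13375 6 = true := by decide +kernel
theorem chk_353 : allRange D.checkLabel 13381 5 = true := by decide +kernel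
theorem chk_354 : allRange D.checkLabel 13386 7 = true := by decide +kernel
theorem chk_355 : allRange D.checkLabel 13393 4 = true := by decide +kernel
theorem chk_356 : allRange D.checkLabel 13397 8 = true := by decide +kernel
theorem chk_357 : allRange D.checkLabel 13405 5 = true := by decide +kernel
theorem chk_358 : allRange D.checkLabel 13410 7 = true := by decide +kernel
theorem chk_359 : allRange D.checkLabel 13417 7 = true := by decide +kernel
theorem chkF_29 : ∀ c, 13350 ≤ c → c < 13424 → D.checkLabel c = true := by
  intro c h1 h2
  by_cases h348 : c < 13357
  · exact allRange_iff.mp chk_348 c (by omega) (by omega)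
  by_cases h349 : c < 13364
  · exact allRange_iff.mp chk_349 c (by omega) (by omega)
  by_cases h350 : c < 13369
  · exact allRange_iff.mp chk_350 c (by omega) (by omega)
  by_cases h351 : c < 13375
  · exact allRange_iff.mp chk_351 c (by omega) (by omega)
  by_cases h352 : c < 13381
  · exact allRange_iff.mp chk_352 c (by omega) (by omega)
  by_cases h353 : c < 13386
  · exact allRange_iff.mp chk_353 c (by omega) (by omega)
  by_cases h354 : c < 13393
  · exact allRange_iff.mp chk_354 c (by omega) (by omega)
  by_cases h355 : c < 13397
  · exact allRange_iff.mp chk_355 c (by omega) (by omega)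
  by_cases h356 : c < 13405
  · exact allRange_iff.mp chk_356 c (by omega) (by omega)
  by_cases h357 : c < 13410
  · exact allRange_iff.mp chk_357 c (by omega) (by omega)
  by_cases h358 : c < 13417
  · exact allRange_iff.mp chk_358 c (by omega) (by omega)
  by_cases h359 : c < 13424
  · exact allRange_iff.mp chk_359 c (by omega) (by omega)
  omega

end Cfsg.Agent.Lib.Helper28.V2.G23MA
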