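import Cfsg.Agent.Lib.Helper28.Mult.G23MAData

set_option autoImplicit false
set_option maxRecDepth 100000

namespace Cfsg.Agent.Lib.Helper28.V2.G23MA

open Cfsg.Agent.Lib.Helper28

theorem chk_360 : allRange D.checkLabel 13424 9 = true := by decide +kernel
theorem chk_361 : allRange D.checkLabel 13433 9 = true := by decide +kernel
theorem chk_362 : allRange D.checkLabel 13442 9 = true := by decide +kernel
theorem chk_363 : allRange D.checkLabel 13451 12 = true := by decide +kernel
theorem chk_364 : allRange D.checkLabel 13463 10 = true := by decide +kernel
theorem chk_365 : allRange D.checkLabel 13473 17 = true := by decide +kernel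
theorem chk_366 : allRange D.checkLabel 13490 14 = true := by decide +kernel
theorem chk_367 : allRange D.checkLabel 13504 15 = true := by decide +kernel
theorem chk_368 : allRange D.checkLabel 13519 18 = true := by decide +kernel
theorem chk_369 : allRange D.checkLabel 13537 3 = true := by decide +kernel
theorem chkF_30 : ∀ c, 13424 ≤ c → c < 13540 → D.checkLabel c = true := by
  intro c h1 h2
  by_cases h360 : c < 13433
  · exact allRange_iff.mp chk_360 c (by omega) (by omega)
  by_cases h361 : c < 13442
  · exact allRange_iff.mp chk_361 c (by omega) (by omega)
  by_cases h362 : c < 13451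
  · exact allRange_iff.mp chk_362 c (by omega) (by omega)
  by_cases h363 : c < 13463
  · exact allRange_iff.mp chk_363 c (by omega) (by omega)
  by_cases h364 : c < 13473
  · exact allRange_iff.mp chk_364 c (by omega) (by omega)
  by_cases h365 : c < 13490
  · exact allRange_iff.mp chk_365 c (by omega) (by omega)
  by_cases h366 : c < 13504
  · exact allRange_iff.mp chk_366 c (by omega) (by omega)
  by_cases h367 : c < 13519
  · exact allRange_iff.mp chk_367 c (by omega) (by omega)
  by_cases h368 : c < 13537
  · exact allRange_iff.mp chk_368 c (by omega) (by omega)
  by_cases h369 : c < 13540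
  · exact allRange_iff.mp chk_369 c (by omega) (by omega)
  omega

end Cfsg.Agent.Lib.Helper28.V2.G23MA
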