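import Cfsg.Agent.Lib.Helper28.Mult.G23MAData

set_option autoImplicit false
set_option maxRecDepth 100000

namespace Cfsg.Agent.Lib.Helper28.V2.G23MA

open Cfsg.Agent.Lib.Helper28

theorem chk_48 : allRange D.checkLabel 2195 23 = true := by decide +kernel
theorem chk_49 : allRange D.checkLabel 2218 48 = true := by decide +kernel
theorem chk_50 : allRange D.checkLabel 2266 21 = true := by decide +kernel
theorem chk_51 : allRange D.checkLabel 2287 49 = true := by decide +kernel
theorem chk_52 : allRange D.checkLabel 2336 16 = true := by decide +kernel
theorem chk_53 : allRange D.checkLabel 2352 65 = true := by decide +kernel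
theorem chk_54 : allRange D.checkLabel 2417 26 = true := by decide +kernel
theorem chk_55 : allRange D.checkLabel 2443 18 = true := by decide +kernel
theorem chk_56 : allRange D.checkLabel 2461 19 = true := by decide +kernel
theorem chk_57 : allRange D.checkLabel 2480 30 = true := by decide +kernel
theorem chk_58 : allRange D.checkLabel 2510 57 = true := by decide +kernel
theorem chk_59 : allRange D.checkLabel 2567 24 = true := by decide +kernel
theorem chkF_4 : ∀ c, 2195 ≤ c → c < 2591 → D.checkLabel c = true := by
  intro c h1 h2
  by_cases h48 : c < 2218
  · exact allRange_iff.mp chk_48 c (by omega) (by omega)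
  by_cases h49 : c < 2266
  · exact allRange_iff.mp chk_49 c (by omega) (by omega)
  by_cases h50 : c < 2287
  · exact allRange_iff.mp chk_50 c (by omega) (by omega)
  by_cases h51 : c < 2336
  · exact allRange_iff.mp chk_51 c (by omega) (by omega)
  by_cases h52 : c < 2352
  · exact allRange_iff.mp chk_52 c (by omega) (by omega)
  by_cases h53 : c < 2417
  · exact allRange_iff.mp chk_53 c (by omega) (by omega)
  by_cases h54 : c < 2443
  · exact allRange_iff.mp chk_54 c (by omega) (by omega)
  by_cases h55 : c < 2461
  · exact allRange_iff.mp chk_55 c (by omega) (by omega)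
  by_cases h56 : c < 2480
  · exact allRange_iff.mp chk_56 c (by omega) (by omega)
  by_cases h57 : c < 2510
  · exact allRange_iff.mp chk_57 c (by omega) (by omega)
  by_cases h58 : c < 2567
  · exact allRange_iff.mp chk_58 c (by omega) (by omega)
  by_cases h59 : c < 2591
  · exact allRange_iff.mp chk_59 c (by omega) (by omega)
  omega

end Cfsg.Agent.Lib.Helper28.V2.G23MA
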