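import Cfsg.Agent.Lib.Helper28.Mult.G23MAData

set_option autoImplicit false
set_option maxRecDepth 100000

namespace Cfsg.Agent.Lib.Helper28.V2.G23MA

open Cfsg.Agent.Lib.Helper28

theorem chk_60 : allRange D.checkLabel 2591 48 = true := by decide +kernel
theorem chk_61 : allRange D.checkLabel 2639 20 = true := by decide +kernel
theorem chk_62 : allRange D.checkLabel 2659 51 = true := by decide +kernel
theorem chk_63 : allRange D.checkLabel 2710 18 = true := by decide +kernel
theorem chk_64 : allRange D.checkLabel 2728 22 = true := by decide +kernel
theorem chk_65 : allRange D.checkLabel 2750 29 = true := by decide +kernel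
theorem chk_66 : allRange D.checkLabel 2779 86 = true := by decide +kernel
theorem chk_67 : allRange D.checkLabel 2865 36 = true := by decide +kernel
theorem chk_68 : allRange D.checkLabel 2901 20 = true := by decide +kernel
theorem chk_69 : allRange D.checkLabel 2921 49 = true := by decide +kernel
theorem chk_70 : allRange D.checkLabel 2970 55 = true := by decide +kernel
theorem chk_71 : allRange D.checkLabel 3025 25 = true := by decide +kernel
theorem chkF_5 : ∀ c, 2591 ≤ c → c < 3050 → D.checkLabel c = true := by
  intro c h1 h2
  by_cases h60 : c < 2639
  · exact allRange_iff.mp chk_60 c (by omega) (by omega)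
  by_cases h61 : c < 2659
  · exact allRange_iff.mp chk_61 c (by omega) (by omega)
  by_cases h62 : c < 2710
  · exact allRange_iff.mp chk_62 c (by omega) (by omega)
  by_cases h63 : c < 2728
  · exact allRange_iff.mp chk_63 c (by omega) (by omega)
  by_cases h64 : c < 2750
  · exact allRange_iff.mp chk_64 c (by omega) (by omega)
  by_cases h65 : c < 2779
  · exact allRange_iff.mp chk_65 c (by omega) (by omega)
  by_cases h66 : c < 2865
  · exact allRange_iff.mp chk_66 c (by omega) (by omega)
  by_cases h67 : c < 2901
  · exact allRange_iff.mp chk_67 c (by omega) (by omega)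
  by_cases h68 : c < 2921
  · exact allRange_iff.mp chk_68 c (by omega) (by omega)
  by_cases h69 : c < 2970
  · exact allRange_iff.mp chk_69 c (by omega) (by omega)
  by_cases h70 : c < 3025
  · exact allRange_iff.mp chk_70 c (by omega) (by omega)
  by_cases h71 : c < 3050
  · exact allRange_iff.mp chk_71 c (by omega) (by omega)
  omega

end Cfsg.Agent.Lib.Helper28.V2.G23MA
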