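import Cfsg.Agent.Lib.Helper28.Mult.G23MAData

set_option autoImplicit false
set_option maxRecDepth 100000

namespace Cfsg.Agent.Lib.Helper28.V2.G23MA

open Cfsg.Agent.Lib.Helper28

theorem chk_72 : allRange D.checkLabel 3050 61 = true := by decide +kernel
theorem chk_73 : allRange D.checkLabel 3111 30 = true := by decide +kernel
theorem chk_74 : allRange D.checkLabel 3141 24 = true := by decide +kernel
theorem chk_75 : allRange D.checkLabel 3165 70 = true := by decide +kernel
theorem chk_76 : allRange D.checkLabel 3235 19 = true := by decide +kernel
theorem chk_77 : allRange D.checkLabel 3254 114 = true := by decide +kernel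
theorem chk_78 : allRange D.checkLabel 3368 23 = true := by decide +kernel
theorem chk_79 : allRange D.checkLabel 3391 18 = true := by decide +kernel
theorem chk_80 : allRange D.checkLabel 3409 29 = true := by decide +kernel
theorem chk_81 : allRange D.checkLabel 3438 38 = true := by decide +kernel
theorem chk_82 : allRange D.checkLabel 3476 93 = true := by decide +kernel
theorem chk_83 : allRange D.checkLabel 3569 25 = true := by decide +kernel
theorem chkF_6 : ∀ c, 3050 ≤ c → c < 3594 → D.checkLabel c = true := by
  intro c h1 h2
  by_cases h72 : c < 3111
  · exact allRange_iff.mp chk_72 c (by omega) (by omega)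
  by_cases h73 : c < 3141
  · exact allRange_iff.mp chk_73 c (by omega) (by omega)
  by_cases h74 : c < 3165
  · exact allRange_iff.mp chk_74 c (by omega) (by omega)
  by_cases h75 : c < 3235
  · exact allRange_iff.mp chk_75 c (by omega) (by omega)
  by_cases h76 : c < 3254
  · exact allRange_iff.mp chk_76 c (by omega) (by omega)
  by_cases h77 : c < 3368
  · exact allRange_iff.mp chk_77 c (by omega) (by omega)
  by_cases h78 : c < 3391
  · exact allRange_iff.mp chk_78 c (by omega) (by omega)
  by_cases h79 : c < 3409
  · exact allRange_iff.mp chk_79 c (by omega) (by omega)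
  by_cases h80 : c < 3438
  · exact allRange_iff.mp chk_80 c (by omega) (by omega)
  by_cases h81 : c < 3476
  · exact allRange_iff.mp chk_81 c (by omega) (by omega)
  by_cases h82 : c < 3569
  · exact allRange_iff.mp chk_82 c (by omega) (by omega)
  by_cases h83 : c < 3594
  · exact allRange_iff.mp chk_83 c (by omega) (by omega)
  omega

end Cfsg.Agent.Lib.Helper28.V2.G23MA
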