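import Cfsg.Agent.Lib.Helper28.Mult.G23MAData

set_option autoImplicit false
set_option maxRecDepth 100000

namespace Cfsg.Agent.Lib.Helper28.V2.G23MA

open Cfsg.Agent.Lib.Helper28

theorem chk_84 : allRange D.checkLabel 3594 28 = true := by decide +kernel
theorem chk_85 : allRange D.checkLabel 3622 19 = true := by decide +kernel
theorem chk_86 : allRange D.checkLabel 3641 88 = true := by decide +kernel
theorem chk_87 : allRange D.checkLabel 3729 20 = true := by decide +kernel
theorem chk_88 : allRange D.checkLabel 3749 95 = true := by decide +kernel
theorem chk_89 : allRange D.checkLabel 3844 18 = true := by decide +kernel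
theorem chk_90 : allRange D.checkLabel 3862 29 = true := by decide +kernel
theorem chk_91 : allRange D.checkLabel 3891 21 = true := by decide +kernel
theorem chk_92 : allRange D.checkLabel 3912 21 = true := by decide +kernel
theorem chk_93 : allRange D.checkLabel 3933 21 = true := by decide +kernel
theorem chk_94 : allRange D.checkLabel 3954 13 = true := by decide +kernel
theorem chk_95 : allRange D.checkLabel 3967 21 = true := by decide +kernel
theorem chkF_7 : ∀ c, 3594 ≤ c → c < 3988 → D.checkLabel c = true := by
  intro c h1 h2
  by_cases h84 : c < 3622
  · exact allRange_iff.mp chk_84 c (by omega) (by omega)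
  by_cases h85 : c < 3641
  · exact allRange_iff.mp chk_85 c (by omega) (by omega)
  by_cases h86 : c < 3729
  · exact allRange_iff.mp chk_86 c (by omega) (by omega)
  by_cases h87 : c < 3749
  · exact allRange_iff.mp chk_87 c (by omega) (by omega)
  by_cases h88 : c < 3844
  · exact allRange_iff.mp chk_88 c (by omega) (by omega)
  by_cases h89 : c < 3862
  · exact allRange_iff.mp chk_89 c (by omega) (by omega)
  by_cases h90 : c < 3891
  · exact allRange_iff.mp chk_90 c (by omega) (by omega)
  by_cases h91 : c < 3912
  · exact allRange_iff.mp chk_91 c (by omega) (by omega)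
  by_cases h92 : c < 3933
  · exact allRange_iff.mp chk_92 c (by omega) (by omega)
  by_cases h93 : c < 3954
  · exact allRange_iff.mp chk_93 c (by omega) (by omega)
  by_cases h94 : c < 3967
  · exact allRange_iff.mp chk_94 c (by omega) (by omega)
  by_cases h95 : c < 3988
  · exact allRange_iff.mp chk_95 c (by omega) (by omega)
  omega

end Cfsg.Agent.Lib.Helper28.V2.G23MA
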