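import Cfsg.Agent.Lib.Helper28.Mult.G23MAData

set_option autoImplicit false
set_option maxRecDepth 100000

namespace Cfsg.Agent.Lib.Helper28.V2.G23MA

open Cfsg.Agent.Lib.Helper28

theorem chk_96 : allRange D.checkLabel 3988 13 = true := by decide +kernel
theorem chk_97 : allRange D.checkLabel 4001 25 = true := by decide +kernel
theorem chk_98 : allRange D.checkLabel 4026 21 = true := by decide +kernel
theorem chk_99 : allRange D.checkLabel 4047 95 = true := by decide +kernel
theorem chk_100 : allRange D.checkLabel 4142 59 = true := by decide +kernel
theorem chk_101 : allRange D.checkLabel 4201 19 = true := by decide +kernel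
theorem chk_102 : allRange D.checkLabel 4220 19 = true := by decide +kernel
theorem chk_103 : allRange D.checkLabel 4239 22 = true := by decide +kernel
theorem chk_104 : allRange D.checkLabel 4261 23 = true := by decide +kernel
theorem chk_105 : allRange D.checkLabel 4284 13 = true := by decide +kernel
theorem chk_106 : allRange D.checkLabel 4297 13 = true := by decide +kernel
theorem chk_107 : allRange D.checkLabel 4310 6 = true := by decide +kernel
theorem chkF_8 : ∀ c, 3988 ≤ c → c < 4316 → D.checkLabel c = true := by
  intro c h1 h2
  by_cases h96 : c < 4001
  · exact allRange_iff.mp chk_96 c (by omega) (by omega)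
  by_cases h97 : c < 4026
  · exact allRange_iff.mp chk_97 c (by omega) (by omega)
  by_cases h98 : c < 4047
  · exact allRange_iff.mp chk_98 c (by omega) (by omega)
  by_cases h99 : c < 4142
  · exact allRange_iff.mp chk_99 c (by omega) (by omega)
  by_cases h100 : c < 4201
  · exact allRange_iff.mp chk_100 c (by omega) (by omega)
  by_cases h101 : c < 4220
  · exact allRange_iff.mp chk_101 c (by omega) (by omega)
  by_cases h102 : c < 4239
  · exact allRange_iff.mp chk_102 c (by omega) (by omega)
  by_cases h103 : c < 4261
  · exact allRange_iff.mp chk_103 c (by omega) (by omega)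
  by_cases h104 : c < 4284
  · exact allRange_iff.mp chk_104 c (by omega) (by omega)
  by_cases h105 : c < 4297
  · exact allRange_iff.mp chk_105 c (by omega) (by omega)
  by_cases h106 : c < 4310
  · exact allRange_iff.mp chk_106 c (by omega) (by omega)
  by_cases h107 : c < 4316
  · exact allRange_iff.mp chk_107 c (by omega) (by omega)
  omega

end Cfsg.Agent.Lib.Helper28.V2.G23MA
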