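import Cfsg.Agent.Lib.Helper28.Mult.G23MAData

set_option autoImplicit false
set_option maxRecDepth 100000

namespace Cfsg.Agent.Lib.Helper28.V2.G23MA

open Cfsg.Agent.Lib.Helper28

theorem chk_108 : allRange D.checkLabel 4316 33 = true := by decide +kernel
theorem chk_109 : allRange D.checkLabel 4349 67 = true := by decide +kernel
theorem chk_110 : allRange D.checkLabel 4416 53 = true := by decide +kernel
theorem chk_111 : allRange D.checkLabel 4469 22 = true := by decide +kernel
theorem chk_112 : allRange D.checkLabel 4491 42 = true := by decide +kernel
theorem chk_113 : allRange D.checkLabel 4533 33 = true := by decide +kernel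
theorem chk_114 : allRange D.checkLabel 4566 15 = true := by decide +kernel
theorem chk_115 : allRange D.checkLabel 4581 9 = true := by decide +kernel
theorem chk_116 : allRange D.checkLabel 4590 29 = true := by decide +kernel
theorem chk_117 : allRange D.checkLabel 4619 24 = true := by decide +kernel
theorem chk_118 : allRange D.checkLabel 4643 57 = true := by decide +kernel
theorem chk_119 : allRange D.checkLabel 4700 57 = true := by decide +kernel
theorem chkF_9 : ∀ c, 4316 ≤ c → c < 4757 → D.checkLabel c = true := by
  intro c h1 h2
  by_cases h108 : c < 4349
  · exact allRange_iff.mp chk_108 c (by omega) (by omega)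
  by_cases h109 : c < 4416
  · exact allRange_iff.mp chk_109 c (by omega) (by omega)
  by_cases h110 : c < 4469
  · exact allRange_iff.mp chk_110 c (by omega) (by omega)
  by_cases h111 : c < 4491
  · exact allRange_iff.mp chk_111 c (by omega) (by omega)
  by_cases h112 : c < 4533
  · exact allRange_iff.mp chk_112 c (by omega) (by omega)
  by_cases h113 : c < 4566
  · exact allRange_iff.mp chk_113 c (by omega) (by omega)
  by_cases h114 : c < 4581
  · exact allRange_iff.mp chk_114 c (by omega) (by omega)
  by_cases h115 : c < 4590
  · exact allRange_iff.mp chk_115 c (by omega) (by omega)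
  by_cases h116 : c < 4619
  · exact allRange_iff.mp chk_116 c (by omega) (by omega)
  by_cases h117 : c < 4643
  · exact allRange_iff.mp chk_117 c (by omega) (by omega)
  by_cases h118 : c < 4700
  · exact allRange_iff.mp chk_118 c (by omega) (by omega)
  by_cases h119 : c < 4757
  · exact allRange_iff.mp chk_119 c (by omega) (by omega)
  omega

end Cfsg.Agent.Lib.Helper28.V2.G23MA
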