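import Cfsg.Agent.Lib.Helper28.Mult.G23MAC0
import Cfsg.Agent.Lib.Helper28.Mult.G23MAC1
import Cfsg.Agent.Lib.Helper28.Mult.G23MAC2
import Cfsg.Agent.Lib.Helper28.Mult.G23MAC3
import Cfsg.Agent.Lib.Helper28.Mult.G23MAC4
import Cfsg.Agent.Lib.Helper28.Mult.G23MAC5
import Cfsg.Agent.Lib.Helper28.Mult.G23MAC6
import Cfsg.Agent.Lib.Helper28.Mult.G23MAC7
import Cfsg.Agent.Lib.Helper28.Mult.G23MAC8
import Cfsg.Agent.Lib.Helper28.Mult.G23MAC9
import Cfsg.Agent.Lib.Helper28.Mult.G23MAC10
import Cfsg.Agent.Lib.Helper28.Mult.G23MAC11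
import Cfsg.Agent.Lib.Helper28.Mult.G23MAC12
import Cfsg.Agent.Lib.Helper28.Mult.G23MAC13
import Cfsg.Agent.Lib.Helper28.Mult.G23MAC14
import Cfsg.Agent.Lib.Helper28.Mult.G23MAC15
import Cfsg.Agent.Lib.Helper28.Mult.G23MAC16
import Cfsg.Agent.Lib.Helper28.Mult.G23MAC17
import Cfsg.Agent.Lib.Helper28.Mult.G23MAC18
import Cfsg.Agent.Lib.Helper28.Mult.G23MAC19
import Cfsg.Agent.Lib.Helper28.Mult.G23MAC20
import Cfsg.Agent.Lib.Helper28.Mult.G23MAC21
import Cfsg.Agent.Lib.Helper28.Mult.G23MAC22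
import Cfsg.Agent.Lib.Helper28.Mult.G23MAC23
import Cfsg.Agent.Lib.Helper28.Mult.G23MAC24
import Cfsg.Agent.Lib.Helper28.Mult.G23MAC25
import Cfsg.Agent.Lib.Helper28.Mult.G23MAC26
import Cfsg.Agent.Lib.Helper28.Mult.G23MAC27
import Cfsg.Agent.Lib.Helper28.Mult.G23MAC28
import Cfsg.Agent.Lib.Helper28.Mult.G23MAC29
import Cfsg.Agent.Lib.Helper28.Mult.G23MAC30

set_option autoImplicit false
set_option maxRecDepth 100000

namespace Cfsg.Agent.Lib.Helper28.V2.G23MA

open Cfsg.Agent.Lib.Helper28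

theorem check_all : ∀ c < D.m, D.checkLabel c = true := by
  intro c hc
  have hc' : c < 13540 := hc
  by_cases h0 : c < 1277
  · exact chkF_0 c (by omega) (by omega)
  by_cases h1 : c < 1573
  · exact chkF_1 c (by omega) (by omega)
  by_cases h2 : c < 1874
  · exact chkF_2 c (by omega) (by omega)
  by_cases h3 : c < 2195
  · exact chkF_3 c (by omega) (by omega)
  by_cases h4 : c < 2591
  · exact chkF_4 c (by omega) (by omega)
  by_cases h5 : c < 3050
  · exact chkF_5 c (by omega) (by omega)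
  by_cases h6 : c < 3594
  · exact chkF_6 c (by omega) (by omega)
  by_cases h7 : c < 3988
  · exact chkF_7 c (by omega) (by omega)
  by_cases h8 : c < 4316
  · exact chkF_8 c (by omega) (by omega)
  by_cases h9 : c < 4757
  · exact chkF_9 c (by omega) (by omega)
  by_cases h10 : c < 5200
  · exact chkF_10 c (by omega) (by omega)
  by_cases h11 : c < 5644
  · exact chkF_11 c (by omega) (by omega)
  by_cases h12 : c < 5932
  · exact chkF_12 c (by omega) (by omega)
  by_cases h13 : c < 6232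
  · exact chkF_13 c (by omega) (by omega)
  by_cases h14 : c < 6548
  · exact chkF_14 c (by omega) (by omega)
  by_cases h15 : c < 7226
  · exact chkF_15 c (by omega) (by omega)
  by_cases h16 : c < 7652
  · exact chkF_16 c (by omega) (by omega)
  by_cases h17 : c < 8057
  · exact chkF_17 c (by omega) (by omega)
  by_cases h18 : c < 8529
  · exact chkF_18 c (by omega) (by omega)
  by_cases h19 : c < 9010
  · exact chkF_19 c (by omega) (by omega)
  by_cases h20 : c < 9488
  · exact chkF_20 c (by omega) (by omega)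
  by_cases h21 : c < 9844
  · exact chkF_21 c (by omega) (by omega)
  by_cases h22 : c < 10211
  · exact chkF_22 c (by omega) (by omega)
  by_cases h23 : c < 10942
  · exact chkF_23 c (by omega) (by omega)
  by_cases h24 : c < 11392
  · exact chkF_24 c (by omega) (by omega)
  by_cases h25 : c < 11935
  · exact chkF_25 c (by omega) (by omega)
  by_cases h26 : c < 12720
  · exact chkF_26 c (by omega) (by omega)
  by_cases h27 : c < 13140
  · exact chkF_27 c (by omega) (by omega)
  by_cases h28 : c < 13350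
  · exact chkF_28 c (by omega) (by omega)
  by_cases h29 : c < 13424
  · exact chkF_29 c (by omega) (by omega)
  by_cases h30 : c < 13540
  · exact chkF_30 c (by omega) (by omega)
  omega
theorem pairs_ok : pairsC.all (pairOK (relsAll relsL invL 25) invL 24 25) = true := by decide +kernel
theorem relsK_ok : ∀ r ∈ relsAll relsL invL 25, ∀ y ∈ r, y < 25 := by decide +kernel
theorem relsL_lt : ∀ r ∈ relsL, ∀ y ∈ r, y < 24 := by decide +kernel
theorem relsL_map : relsL.map (fun r => r.map ren) = W := by decide +kernel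
theorem dpairs_ok : D.pairs = pairsC.map Prod.fst := by decide +kernel
theorem fin_all : allBelow D.finalLabel 13540 = true := by decide +kernel
theorem live_count : D.liveCount = 2268 := by decide +kernel
theorem h0_ok : D.tg D.K 0 = 0 := by decide +kernel
theorem ok : Lk.OK W oinv Cfsg.Agent.Lib.Helper28.Mult.G23M.C.K [0, 1, 2, 3, 4, 5, 6, 7, 8, 9, 10, 11, 12, 13, 14, 15, 16, 17, 18, 19, 20, 21, 22, 23] [0, 1, 2, 3, 10, 11, 12, 13, 20, 21, 22, 23] where
  Kall := rfl
  invK := by decide +kernel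
  invE := rfl
  relsIn := by
    intro r hr
    refine ⟨relsL_lt r hr, ?_⟩
    rw [← relsL_map]
    exact List.mem_map_of_mem (f := fun r => r.map ren) hr
  Dpairs := dpairs_ok
  pairs := pairs_ok
  relsK := relsK_ok
  isSub := by
    intro x hx
    have hx' : subL.contains x = true := hx
    show x ∈ subL
    simpa using hx'
  sub := by decide +kernel
  check := check_all
  gens := by decide +kernel
  hm := by decide
  h0 := h0_ok
  fin := allBelow_iff.mp fin_all
  count := live_count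

theorem card_le {Γ : Type*} [Group Γ] (g : ℕ → Γ) (hW : ∀ t, evalW (Cfsg.Agent.Lib.Helper28.Mult.G23M.C.val g) (Cfsg.Agent.Lib.Helper28.Mult.G23M.C.word t) = 1)
    (hB : Finite (Sg (Cfsg.Agent.Lib.Helper28.Mult.G23M.C.val g) [0, 1, 2, 3, 10, 11, 12, 13, 20, 21, 22, 23])) :
    Finite (Sg (Cfsg.Agent.Lib.Helper28.Mult.G23M.C.val g) [0, 1, 2, 3, 4, 5, 6, 7, 8, 9, 10, 11, 12, 13, 14, 15, 16, 17, 18, 19, 20, 21, 22, 23]) ∧
      Nat.card (Sg (Cfsg.Agent.Lib.Helper28.Mult.G23M.C.val g) [0, 1, 2, 3, 4, 5, 6, 7, 8, 9, 10, 11, 12, 13, 14, 15, 16, 17, 18, 19, 20, 21, 22, 23]) ≤ 2268 * Nat.card (Sg (Cfsg.Agent.Lib.Helper28.Mult.G23M.C.val g) [0, 1, 2, 3, 10, 11, 12, 13, 20, 21, 22, 23]) :=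
  ok.card_le _ (by
    intro w hw
    obtain ⟨t, _, rfl⟩ := List.mem_map.mp hw
    exact hW t) (fun y _ => Cov.val_oinv g y) hB

end Cfsg.Agent.Lib.Helper28.V2.G23MA
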