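import Cfsg.Agent.Lib.Helper28.Mult.G23MAData

set_option autoImplicit false
set_option maxRecDepth 100000

namespace Cfsg.Agent.Lib.Helper28.V2.G23MA

open Cfsg.Agent.Lib.Helper28

theorem chk_264 : allRange D.checkLabel 9844 69 = true := by decide +kernel
theorem chk_265 : allRange D.checkLabel 9913 20 = true := by decide +kernel
theorem chk_266 : allRange D.checkLabel 9933 15 = true := by decide +kernel
theorem chk_267 : allRange D.checkLabel 9948 11 = true := by decide +kernel
theorem chk_268 : allRange D.checkLabel 9959 16 = true := by decide +kernel
theorem chk_269 : allRange D.checkLabel 9975 10 = true := by decide +kernel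
theorem chk_270 : allRange D.checkLabel 9985 65 = true := by decide +kernel
theorem chk_271 : allRange D.checkLabel 10050 56 = true := by decide +kernel
theorem chk_272 : allRange D.checkLabel 10106 68 = true := by decide +kernel
theorem chk_273 : allRange D.checkLabel 10174 18 = true := by decide +kernel
theorem chk_274 : allRange D.checkLabel 10192 7 = true := by decide +kernel
theorem chk_275 : allRange D.checkLabel 10199 12 = true := by decide +kernel
theorem chkF_22 : ∀ c, 9844 ≤ c → c < 10211 → D.checkLabel c = true := by
  intro c h1 h2
  by_cases h264 : c < 9913
  · exact allRange_iff.mp chk_264 c (by omega) (by omega)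
  by_cases h265 : c < 9933
  · exact allRange_iff.mp chk_265 c (by omega) (by omega)
  by_cases h266 : c < 9948
  · exact allRange_iff.mp chk_266 c (by omega) (by omega)
  by_cases h267 : c < 9959
  · exact allRange_iff.mp chk_267 c (by omega) (by omega)
  by_cases h268 : c < 9975
  · exact allRange_iff.mp chk_268 c (by omega) (by omega)
  by_cases h269 : c < 9985
  · exact allRange_iff.mp chk_269 c (by omega) (by omega)
  by_cases h270 : c < 10050
  · exact allRange_iff.mp chk_270 c (by omega) (by omega)
  by_cases h271 : c < 10106
  · exact allRange_iff.mp chk_271 c (by omega) (by omega)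
  by_cases h272 : c < 10174
  · exact allRange_iff.mp chk_272 c (by omega) (by omega)
  by_cases h273 : c < 10192
  · exact allRange_iff.mp chk_273 c (by omega) (by omega)
  by_cases h274 : c < 10199
  · exact allRange_iff.mp chk_274 c (by omega) (by omega)
  by_cases h275 : c < 10211
  · exact allRange_iff.mp chk_275 c (by omega) (by omega)
  omega

end Cfsg.Agent.Lib.Helper28.V2.G23MA
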