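import Cfsg.Agent.Lib.Helper28.Mult.G23MBData

set_option autoImplicit false
set_option maxRecDepth 100000

namespace Cfsg.Agent.Lib.Helper28.V2.G23MB

open Cfsg.Agent.Lib.Helper28

theorem chk_36 : allRange D.checkLabel 9402 305 = true := by decide +kernel
theorem chk_37 : allRange D.checkLabel 9707 283 = true := by decide +kernel
theorem chk_38 : allRange D.checkLabel 9990 300 = true := by decide +kernel
theorem chk_39 : allRange D.checkLabel 10290 368 = true := by decide +kernel
theorem chk_40 : allRange D.checkLabel 10658 400 = true := by decide +kernel
theorem chk_41 : allRange D.checkLabel 11058 358 = true := by decide +kernel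
theorem chk_42 : allRange D.checkLabel 11416 552 = true := by decide +kernel
theorem chk_43 : allRange D.checkLabel 11968 393 = true := by decide +kernel
theorem chk_44 : allRange D.checkLabel 12361 349 = true := by decide +kernel
theorem chk_45 : allRange D.checkLabel 12710 357 = true := by decide +kernel
theorem chk_46 : allRange D.checkLabel 13067 345 = true := by decide +kernel
theorem chk_47 : allRange D.checkLabel 13412 549 = true := by decide +kernel
theorem chkF_3 : ∀ c, 9402 ≤ c → c < 13961 → D.checkLabel c = true := by
  intro c h1 h2
  by_cases h36 : c < 9707
  · exact allRange_iff.mp chk_36 c (by omega) (by omega)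
  by_cases h37 : c < 9990
  · exact allRange_iff.mp chk_37 c (by omega) (by omega)
  by_cases h38 : c < 10290
  · exact allRange_iff.mp chk_38 c (by omega) (by omega)
  by_cases h39 : c < 10658
  · exact allRange_iff.mp chk_39 c (by omega) (by omega)
  by_cases h40 : c < 11058
  · exact allRange_iff.mp chk_40 c (by omega) (by omega)
  by_cases h41 : c < 11416
  · exact allRange_iff.mp chk_41 c (by omega) (by omega)
  by_cases h42 : c < 11968
  · exact allRange_iff.mp chk_42 c (by omega) (by omega)
  by_cases h43 : c < 12361
  · exact allRange_iff.mp chk_43 c (by omega) (by omega)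
  by_cases h44 : c < 12710
  · exact allRange_iff.mp chk_44 c (by omega) (by omega)
  by_cases h45 : c < 13067
  · exact allRange_iff.mp chk_45 c (by omega) (by omega)
  by_cases h46 : c < 13412
  · exact allRange_iff.mp chk_46 c (by omega) (by omega)
  by_cases h47 : c < 13961
  · exact allRange_iff.mp chk_47 c (by omega) (by omega)
  omega

end Cfsg.Agent.Lib.Helper28.V2.G23MB
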