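import Cfsg.Agent.Lib.Helper28.Mult.G23MBData

set_option autoImplicit false
set_option maxRecDepth 100000

namespace Cfsg.Agent.Lib.Helper28.V2.G23MB

open Cfsg.Agent.Lib.Helper28

theorem chk_60 : allRange D.checkLabel 17757 335 = true := by decide +kernel
theorem chk_61 : allRange D.checkLabel 18092 297 = true := by decide +kernel
theorem chk_62 : allRange D.checkLabel 18389 397 = true := by decide +kernel
theorem chk_63 : allRange D.checkLabel 18786 292 = true := by decide +kernel
theorem chk_64 : allRange D.checkLabel 19078 270 = true := by decide +kernel
theorem chk_65 : allRange D.checkLabel 19348 428 = true := by decide +kernel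
theorem chk_66 : allRange D.checkLabel 19776 549 = true := by decide +kernel
theorem chk_67 : allRange D.checkLabel 20325 598 = true := by decide +kernel
theorem chk_68 : allRange D.checkLabel 20923 317 = true := by decide +kernel
theorem chk_69 : allRange D.checkLabel 21240 222 = true := by decide +kernel
theorem chk_70 : allRange D.checkLabel 21462 236 = true := by decide +kernel
theorem chk_71 : allRange D.checkLabel 21698 240 = true := by decide +kernel
theorem chkF_5 : ∀ c, 17757 ≤ c → c < 21938 → D.checkLabel c = true := by
  intro c h1 h2
  by_cases h60 : c < 18092
  · exact allRange_iff.mp chk_60 c (by omega) (by omega)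
  by_cases h61 : c < 18389
  · exact allRange_iff.mp chk_61 c (by omega) (by omega)
  by_cases h62 : c < 18786
  · exact allRange_iff.mp chk_62 c (by omega) (by omega)
  by_cases h63 : c < 19078
  · exact allRange_iff.mp chk_63 c (by omega) (by omega)
  by_cases h64 : c < 19348
  · exact allRange_iff.mp chk_64 c (by omega) (by omega)
  by_cases h65 : c < 19776
  · exact allRange_iff.mp chk_65 c (by omega) (by omega)
  by_cases h66 : c < 20325
  · exact allRange_iff.mp chk_66 c (by omega) (by omega)
  by_cases h67 : c < 20923
  · exact allRange_iff.mp chk_67 c (by omega) (by omega)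
  by_cases h68 : c < 21240
  · exact allRange_iff.mp chk_68 c (by omega) (by omega)
  by_cases h69 : c < 21462
  · exact allRange_iff.mp chk_69 c (by omega) (by omega)
  by_cases h70 : c < 21698
  · exact allRange_iff.mp chk_70 c (by omega) (by omega)
  by_cases h71 : c < 21938
  · exact allRange_iff.mp chk_71 c (by omega) (by omega)
  omega

end Cfsg.Agent.Lib.Helper28.V2.G23MB
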