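import Cfsg.Agent.Lib.Helper28.Mult.G23MBData

set_option autoImplicit false
set_option maxRecDepth 100000

namespace Cfsg.Agent.Lib.Helper28.V2.G23MB

open Cfsg.Agent.Lib.Helper28

theorem chk_72 : allRange D.checkLabel 21938 270 = true := by decide +kernel
theorem chk_73 : allRange D.checkLabel 22208 447 = true := by decide +kernel
theorem chk_74 : allRange D.checkLabel 22655 623 = true := by decide +kernel
theorem chk_75 : allRange D.checkLabel 23278 290 = true := by decide +kernel
theorem chk_76 : allRange D.checkLabel 23568 236 = true := by decide +kernel
theorem chk_77 : allRange D.checkLabel 23804 268 = true := by decide +kernel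
theorem chk_78 : allRange D.checkLabel 24072 426 = true := by decide +kernel
theorem chk_79 : allRange D.checkLabel 24498 296 = true := by decide +kernel
theorem chk_80 : allRange D.checkLabel 24794 225 = true := by decide +kernel
theorem chk_81 : allRange D.checkLabel 25019 273 = true := by decide +kernel
theorem chk_82 : allRange D.checkLabel 25292 319 = true := by decide +kernel
theorem chk_83 : allRange D.checkLabel 25611 601 = true := by decide +kernel
theorem chkF_6 : ∀ c, 21938 ≤ c → c < 26212 → D.checkLabel c = true := by
  intro c h1 h2
  by_cases h72 : c < 22208
  · exact allRange_iff.mp chk_72 c (by omega) (by omega)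
  by_cases h73 : c < 22655
  · exact allRange_iff.mp chk_73 c (by omega) (by omega)
  by_cases h74 : c < 23278
  · exact allRange_iff.mp chk_74 c (by omega) (by omega)
  by_cases h75 : c < 23568
  · exact allRange_iff.mp chk_75 c (by omega) (by omega)
  by_cases h76 : c < 23804
  · exact allRange_iff.mp chk_76 c (by omega) (by omega)
  by_cases h77 : c < 24072
  · exact allRange_iff.mp chk_77 c (by omega) (by omega)
  by_cases h78 : c < 24498
  · exact allRange_iff.mp chk_78 c (by omega) (by omega)
  by_cases h79 : c < 24794
  · exact allRange_iff.mp chk_79 c (by omega) (by omega)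
  by_cases h80 : c < 25019
  · exact allRange_iff.mp chk_80 c (by omega) (by omega)
  by_cases h81 : c < 25292
  · exact allRange_iff.mp chk_81 c (by omega) (by omega)
  by_cases h82 : c < 25611
  · exact allRange_iff.mp chk_82 c (by omega) (by omega)
  by_cases h83 : c < 26212
  · exact allRange_iff.mp chk_83 c (by omega) (by omega)
  omega

end Cfsg.Agent.Lib.Helper28.V2.G23MB
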