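import Cfsg.Agent.Lib.Helper28.Mult.G23MBData

set_option autoImplicit false
set_option maxRecDepth 100000

namespace Cfsg.Agent.Lib.Helper28.V2.G23MB

open Cfsg.Agent.Lib.Helper28

theorem chk_84 : allRange D.checkLabel 26212 591 = true := by decide +kernel
theorem chk_85 : allRange D.checkLabel 26803 545 = true := by decide +kernel
theorem chk_86 : allRange D.checkLabel 27348 602 = true := by decide +kernel
theorem chk_87 : allRange D.checkLabel 27950 410 = true := by decide +kernel
theorem chk_88 : allRange D.checkLabel 28360 471 = true := by decide +kernel
theorem chk_89 : allRange D.checkLabel 28831 271 = true := by decide +kernel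
theorem chk_90 : allRange D.checkLabel 29102 465 = true := by decide +kernel
theorem chk_91 : allRange D.checkLabel 29567 269 = true := by decide +kernel
theorem chk_92 : allRange D.checkLabel 29836 109 = true := by decide +kernel
theorem chk_93 : allRange D.checkLabel 29945 94 = true := by decide +kernel
theorem chk_94 : allRange D.checkLabel 30039 108 = true := by decide +kernel
theorem chk_95 : allRange D.checkLabel 30147 80 = true := by decide +kernel
theorem chkF_7 : ∀ c, 26212 ≤ c → c < 30227 → D.checkLabel c = true := by
  intro c h1 h2
  by_cases h84 : c < 26803
  · exact allRange_iff.mp chk_84 c (by omega) (by omega)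
  by_cases h85 : c < 27348
  · exact allRange_iff.mp chk_85 c (by omega) (by omega)
  by_cases h86 : c < 27950
  · exact allRange_iff.mp chk_86 c (by omega) (by omega)
  by_cases h87 : c < 28360
  · exact allRange_iff.mp chk_87 c (by omega) (by omega)
  by_cases h88 : c < 28831
  · exact allRange_iff.mp chk_88 c (by omega) (by omega)
  by_cases h89 : c < 29102
  · exact allRange_iff.mp chk_89 c (by omega) (by omega)
  by_cases h90 : c < 29567
  · exact allRange_iff.mp chk_90 c (by omega) (by omega)
  by_cases h91 : c < 29836
  · exact allRange_iff.mp chk_91 c (by omega) (by omega)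
  by_cases h92 : c < 29945
  · exact allRange_iff.mp chk_92 c (by omega) (by omega)
  by_cases h93 : c < 30039
  · exact allRange_iff.mp chk_93 c (by omega) (by omega)
  by_cases h94 : c < 30147
  · exact allRange_iff.mp chk_94 c (by omega) (by omega)
  by_cases h95 : c < 30227
  · exact allRange_iff.mp chk_95 c (by omega) (by omega)
  omega

end Cfsg.Agent.Lib.Helper28.V2.G23MB
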