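import Cfsg.Agent.Lib.Helper28.Mult.G23MatData
import Cfsg.Agent.Lib.Helper28.Mult.G23M

/-!
# The root elements `x_r(1)` of `G₂(3)` satisfy the relators `G23M.relsC` and generate (helper28)

The method (coded matrices over a concrete field, chains of partial products) is the one of helper93 for `G₂(4)`.
-/

set_option autoImplicit false
set_option maxRecDepth 100000

namespace Cfsg.Agent.Lib.Helper28.Mult.G23B

open Matrix Cfsg.Agent.Lib.Helper28

/-- the field with three elements `0, 1, -1` -/
inductive F3
  | z | o | t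
  deriving DecidableEq

instance instFintypeF3 : Fintype F3 :=
  ⟨⟨[F3.z, F3.o, F3.t], by decide⟩, by intro x; cases x <;> decide⟩

namespace F3

/-- addition -/
def add : F3 → F3 → F3
  | z, b => b
  | a, z => a
  | o, o => t | o, t => z
  | t, o => z | t, t => o

/-- multiplication -/
def mul : F3 → F3 → F3
  | z, _ => z
  | _, z => z
  | o, b => b
  | a, o => a
  | t, t => o

/-- negation -/
def neg : F3 → F3
  | z => z | o => t | t => o

instance : Add F3 := ⟨add⟩
instance : Mul F3 := ⟨mul⟩
instance : Neg F3 := ⟨neg⟩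
instance : Inv F3 := ⟨id⟩
instance : Zero F3 := ⟨z⟩
instance : One F3 := ⟨o⟩

instance instFieldF3 : Field F3 :=
  Field.ofMinimalAxioms F3 (by decide) (by decide) (by decide) (by decide) (by decide) (by decide)
    (by decide) (by decide) (by decide) (by decide)

theorem card_eq : Fintype.card F3 = 3 := rfl

end F3

/-- the index set of the adjoint representation -/
abbrev Ix : Type := Cfsg.Lie.chevG2.Idx

/-- numbering of the coordinates -/
def idx : Ix → ℕ
  | .inl i => i.val
  | .inr i => 2 + i.val

/-- decoding of field elements -/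
def ofN : ℕ → F3
  | 0 => .z | 1 => .o | _ => .t

/-- decoding of matrices -/
def mat (T : ℕ) : Matrix Ix Ix F3 :=
  Matrix.of fun i j => ofN ((T >>> (2 * (14 * idx i + idx j))) &&& 3)

theorem mat_ID : mat ID = 1 := by decide +kernel

/-- check of a chain of products -/
def chainB (A : ℕ → ℕ) : ℕ → List ℕ → List ℕ → Bool
  | _, [], [] => true
  | P, x :: w, P' :: Ps => decide (mat P * mat (A x) = mat P') && chainB A P' w Ps
  | _, _, _ => false

theorem chainB_sound (A : ℕ → ℕ) : ∀ (w Ps : List ℕ) (P : ℕ), chainB A P w Ps = true →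
    mat P * (w.map fun x => mat (A x)).prod = mat (Ps.getLastD P) := by
  intro w
  induction w with
  | nil =>
    intro Ps P h
    cases Ps with
    | nil => simp
    | cons a l => simp [chainB] at h
  | cons x w ih =>
    intro Ps P h
    cases Ps with
    | nil => simp [chainB] at h
    | cons P' Ps =>
      simp only [chainB, Bool.and_eq_true, decide_eq_true_eq] at h
      rw [List.map_cons, List.prod_cons, ← mul_assoc, h.1, ih Ps P' h.2, List.getLastD_cons]

/-- the group -/
abbrev G2 : Type := ↥(Cfsg.Lie.chevG2.group F3)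

/-- the letter of `x_r(t)` -/
def lcode (r : ℕ) : F3 → ℕ
  | .z => 24 | .o => 2 * r | .t => 2 * r + 1

theorem x_lit : ∀ (r : Fin Cfsg.Lie.chevG2.nroots) (s : F3),
    Cfsg.Lie.chevG2.xMat F3 r s = mat (XT.getD (lcode r.val s) ID) := by decide +kernel

theorem x_inv : ∀ r < 12, mat (XT.getD (2 * r) ID) * mat (XT.getD (2 * r + 1) ID) = 1 ∧
    mat (XT.getD (2 * r + 1) ID) * mat (XT.getD (2 * r) ID) = 1 := by decide +kernel

theorem x_inv' (r : ℕ) : mat (XT.getD (2 * r) ID) * mat (XT.getD (2 * r + 1) ID) = 1 ∧
    mat (XT.getD (2 * r + 1) ID) * mat (XT.getD (2 * r) ID) = 1 := by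
  by_cases h : r < 12
  · exact x_inv r h
  · rw [List.getD_eq_default _ _ (by show 24 ≤ 2 * r; omega),
      List.getD_eq_default _ _ (by show 24 ≤ 2 * r + 1; omega), mat_ID, one_mul]
    exact ⟨rfl, rfl⟩

/-- the root elements, as invertible matrices -/
def xl (r : ℕ) : GL Ix F3 :=
  ⟨mat (XT.getD (2 * r) ID), mat (XT.getD (2 * r + 1) ID), (x_inv' r).1, (x_inv' r).2⟩

theorem xl_mem (r : ℕ) : xl r ∈ Cfsg.Lie.chevG2.group F3 := by
  by_cases h : r < 12
  · apply Subgroup.subset_closure
    refine ⟨⟨r, h⟩, F3.o, ?_⟩
    rw [x_lit]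
    rfl
  · have e : xl r = 1 := by
      apply Units.ext
      show mat (XT.getD (2 * r) ID) = 1
      rw [List.getD_eq_default _ _ (by show 24 ≤ 2 * r; omega), mat_ID]
    rw [e]; exact Subgroup.one_mem _

/-- the root elements -/
def γ (r : ℕ) : G2 := ⟨xl r, xl_mem r⟩

theorem bval_coe (l : ℕ) : (((bval γ l : G2) : GL Ix F3) : Matrix Ix Ix F3) = mat (XT.getD l ID) := by
  unfold bval
  split_ifs with h
  · show mat (XT.getD (2 * (l / 2)) ID) = _
    rw [show 2 * (l / 2) = l by omega]
  · show mat (XT.getD (2 * (l / 2) + 1) ID) = _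
    rw [show 2 * (l / 2) + 1 = l by omega]

theorem evalW_coe (w : List ℕ) :
    (((evalW (bval γ) w : G2) : GL Ix F3) : Matrix Ix Ix F3) = (w.map fun x => mat (XT.getD x ID)).prod := by
  induction w with
  | nil => rfl
  | cons x w ih =>
    rw [evalW_cons, List.map_cons, List.prod_cons, ← ih, ← bval_coe x]
    rfl

/-- the check of one relator -/
def relOK (i : ℕ) : Bool :=
  chainB (fun k => XT.getD k ID) ID (G23M.relsC.getD i []) (rch.getD i []) &&
    decide ((rch.getD i []).getLastD ID = ID)

theorem rch_0 : ∀ i < 6, relOK (0 + i) = true := by decide +kernel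
theorem rch_1 : ∀ i < 6, relOK (6 + i) = true := by decide +kernel
theorem rch_2 : ∀ i < 6, relOK (12 + i) = true := by decide +kernel
theorem rch_3 : ∀ i < 6, relOK (18 + i) = true := by decide +kernel
theorem rch_4 : ∀ i < 6, relOK (24 + i) = true := by decide +kernel
theorem rch_5 : ∀ i < 6, relOK (30 + i) = true := by decide +kernel
theorem rch_6 : ∀ i < 6, relOK (36 + i) = true := by decide +kernel
theorem rch_7 : ∀ i < 6, relOK (42 + i) = true := by decide +kernel
theorem rch_8 : ∀ i < 6, relOK (48 + i) = true := by decide +kernel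
theorem rch_9 : ∀ i < 6, relOK (54 + i) = true := by decide +kernel
theorem rch_10 : ∀ i < 6, relOK (60 + i) = true := by decide +kernel
theorem rch_11 : ∀ i < 6, relOK (66 + i) = true := by decide +kernel

theorem rch_ok : ∀ i < G23M.relsC.length,
    chainB (fun k => XT.getD k ID) ID (G23M.relsC.getD i []) (rch.getD i []) = true ∧
      (rch.getD i []).getLastD ID = ID := by
  intro i hi
  have hi' : i < 72 := hi
  have key : relOK i = true := by
    by_cases h0 : i < 6
    · have := rch_0 (i - 0) (by omega)
      rwa [show 0 + (i - 0) = i by omega] at this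
    by_cases h1 : i < 12
    · have := rch_1 (i - 6) (by omega)
      rwa [show 6 + (i - 6) = i by omega] at this
    by_cases h2 : i < 18
    · have := rch_2 (i - 12) (by omega)
      rwa [show 12 + (i - 12) = i by omega] at this
    by_cases h3 : i < 24
    · have := rch_3 (i - 18) (by omega)
      rwa [show 18 + (i - 18) = i by omega] at this
    by_cases h4 : i < 30
    · have := rch_4 (i - 24) (by omega)
      rwa [show 24 + (i - 24) = i by omega] at this
    by_cases h5 : i < 36
    · have := rch_5 (i - 30) (by omega)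
      rwa [show 30 + (i - 30) = i by omega] at this
    by_cases h6 : i < 42
    · have := rch_6 (i - 36) (by omega)
      rwa [show 36 + (i - 36) = i by omega] at this
    by_cases h7 : i < 48
    · have := rch_7 (i - 42) (by omega)
      rwa [show 42 + (i - 42) = i by omega] at this
    by_cases h8 : i < 54
    · have := rch_8 (i - 48) (by omega)
      rwa [show 48 + (i - 48) = i by omega] at this
    by_cases h9 : i < 60
    · have := rch_9 (i - 54) (by omega)
      rwa [show 54 + (i - 54) = i by omega] at this
    by_cases h10 : i < 66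
    · have := rch_10 (i - 60) (by omega)
      rwa [show 60 + (i - 60) = i by omega] at this
    by_cases h11 : i < 72
    · have := rch_11 (i - 66) (by omega)
      rwa [show 66 + (i - 66) = i by omega] at this
    omega
  unfold relOK at key
  rw [Bool.and_eq_true, decide_eq_true_eq] at key
  exact key

/-- the relations hold -/
theorem γ_rel : ∀ w ∈ G23M.C.rels, evalW (bval γ) w = 1 := by
  intro w hw
  have hw' : w ∈ G23M.relsC := hw
  obtain ⟨i, hi, rfl⟩ := List.getElem_of_mem hw'
  obtain ⟨h1, h2⟩ := rch_ok i hi
  rw [List.getD_eq_getElem _ _ hi] at h1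
  have := chainB_sound _ _ _ _ h1
  rw [mat_ID, one_mul, h2, mat_ID] at this
  apply Subtype.ext
  apply Units.ext
  rw [evalW_coe]
  exact this

/-- the root elements generate -/
theorem γ_gen : Subgroup.closure (γ '' {i | i < 12}) = ⊤ := by
  set S : Subgroup G2 := Subgroup.closure (γ '' {i | i < 12}) with hS
  have hmem : ∀ r < 12, γ r ∈ S := fun r hr => Subgroup.subset_closure ⟨r, hr, rfl⟩
  have hle : Cfsg.Lie.chevG2.group F3 ≤ S.map (Cfsg.Lie.chevG2.group F3).subtype := by
    unfold Cfsg.Lie.ChevalleyDatum.group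
    rw [Subgroup.closure_le]
    rintro g ⟨r, s, hg⟩
    rw [x_lit] at hg
    have hr : r.val < 12 := r.2
    cases s with
    | z =>
      have e : g = 1 := by
        apply Units.ext
        rw [hg]
        exact mat_ID
      rw [e]; exact Subgroup.one_mem _
    | o =>
      refine ⟨γ r.val, hmem _ hr, ?_⟩
      apply Units.ext
      rw [hg]
      rfl
    | t =>
      refine ⟨(γ r.val)⁻¹, Subgroup.inv_mem _ (hmem _ hr), ?_⟩
      apply Units.ext
      rw [hg]
      rfl
  rw [eq_top_iff]
  intro x _
  obtain ⟨y, hy, e⟩ := hle x.2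
  have : y = x := Subtype.ext e
  rwa [← this]

end Cfsg.Agent.Lib.Helper28.Mult.G23B
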