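import Cfsg.Agent.Lib.Helper28.Mult.Cover

set_option autoImplicit false
set_option maxRecDepth 100000

namespace Cfsg.Agent.Lib.Helper28.Mult.HeM

open Cfsg.Agent.Lib.Helper28

def relsC : List (List ℕ) := [
  [0, 0],
  [2, 2],
  [4, 4],
  [6, 6],
  [8, 8],
  [10, 10],
  [12, 12],
  [0, 2, 0, 2, 0, 2, 0, 2],
  [0, 4, 0, 4],
  [0, 6, 0, 6],
  [0, 8, 0, 8],
  [0, 10, 0, 10],
  [0, 12, 0, 12],
  [2, 4, 2, 4, 2, 4],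
  [2, 6, 2, 6],
  [2, 8, 2, 8],
  [2, 10, 2, 10],
  [2, 12, 2, 12],
  [4, 6, 4, 6, 4, 6, 4, 6, 4, 6, 4, 6, 4, 6, 4, 6, 4, 6, 4, 6],
  [4, 8, 4, 8],
  [4, 10, 4, 10],
  [4, 12, 4, 12],
  [6, 8, 6, 8, 6, 8],
  [6, 10, 6, 10, 6, 10],
  [6, 12, 6, 12, 6, 12],
  [8, 10, 8, 10],
  [8, 12, 8, 12],
  [10, 12, 10, 12, 10, 12, 10, 12],
  [8, 13, 11, 13, 11],
  [8, 5, 3, 1, 5, 3, 1, 5, 3, 1],
  [0, 7, 5, 7, 5, 7, 5, 7, 5, 7, 5],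
  [4, 6, 10, 12, 4, 6, 10, 12, 4, 6, 10, 12, 4, 6, 10, 12],
  [5, 7, 4, 6, 15],
  [7, 9, 6, 8, 17],
  [7, 11, 6, 10, 19],
  [7, 9, 7, 5, 3, 9, 7, 5, 3, 9, 7, 5, 3, 9, 7, 5, 3, 9, 7, 5, 3, 9, 7, 5, 3, 9, 7, 5, 3, 6, 2, 4, 6, 8, 2, 4, 6, 8, 2, 4, 6, 8, 2, 4, 6, 8, 2, 4, 6, 8, 2, 4, 6, 8, 2, 4, 6, 8, 21],
  [9, 9, 7, 5, 3, 9, 7, 5, 3, 9, 7, 5, 3, 9, 7, 5, 3, 9, 7, 5, 3, 9, 7, 5, 3, 9, 7, 5, 3, 8, 2, 4, 6, 8, 2, 4, 6, 8, 2, 4, 6, 8, 2, 4, 6, 8, 2, 4, 6, 8, 2, 4, 6, 8, 2, 4, 6, 8, 23],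
  [11, 9, 7, 5, 3, 9, 7, 5, 3, 9, 7, 5, 3, 9, 7, 5, 3, 9, 7, 5, 3, 9, 7, 5, 3, 9, 7, 5, 3, 10, 2, 4, 6, 8, 2, 4, 6, 8, 2, 4, 6, 8, 2, 4, 6, 8, 2, 4, 6, 8, 2, 4, 6, 8, 2, 4, 6, 8, 25],
  [26, 32, 37],
  [28, 30, 34, 39],
  [28, 28],
  [35, 26, 34, 27],
  [35, 30, 29, 38],
  [26, 34, 34, 34, 27],
  [26, 34, 28, 34, 29, 27],
  [28, 32, 30, 33, 34, 39],
  [28, 32, 28, 33, 29, 27, 37],
  [35, 32, 35, 33, 35, 27, 37],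
  [26, 28, 30, 26, 31, 27, 29, 27],
  [26, 28, 34, 30, 34, 31, 29, 27],
  [26, 28, 26, 28, 30, 32, 28, 35, 33, 34, 27, 29, 27, 38, 37, 39, 37, 39, 37, 38, 37, 38, 37, 38, 37, 39],
  [36, 36],
  [38, 38, 38],
  [36, 38, 36, 38, 36, 38, 36, 38, 36, 38, 36, 38, 36, 38, 36, 38, 36, 38, 36, 38, 36, 38, 36, 38, 36, 38, 36, 38, 36, 38],
  [36, 38, 36, 38, 36, 38, 36, 38, 36, 38, 36, 39, 36, 39, 36, 39, 36, 38, 36, 38, 36, 38, 36, 38, 36, 38, 36, 39, 36, 39, 36, 39]]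
def normC : List (List ℕ) := [
  [41, 50, 52, 67, 96, 99],
  [41, 41, 43, 44, 46, 49, 84, 99, 100],
  [41, 41, 43, 43, 46, 66, 71, 84, 99, 100],
  [47, 49, 51, 53, 84, 97],
  [50, 52, 96],
  [48, 52, 85, 86, 96],
  [48, 50, 85, 88, 96],
  [105],
  [107],
  [109],
  [111],
  [113],
  [115],
  [127, 135, 142, 142, 142, 142, 142, 142, 142, 144, 144, 144, 144, 144, 147],
  [127, 132, 135],
  [118, 121, 125, 130, 133, 134, 144],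
  [116, 126, 134, 142],
  [126, 129],
  [143, 143, 143, 143, 143, 143, 143, 145, 145, 145, 145, 145, 146],
  [143, 143, 143, 143, 143, 143, 143, 143, 145, 148]]
def C : Cov where
  n := 20
  rels := relsC
  norm := normC

theorem C_ok : C.OK where
  relsK := by decide +kernel
  normK := by decide +kernel
  normLen := rfl
  esum := by decide +kernel

end Cfsg.Agent.Lib.Helper28.Mult.HeM
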