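import Cfsg.Agent.Lib.Helper28.Mult.Stem
import Cfsg.Agent.Lib.Helper28.Mult.HeMA
import Cfsg.Agent.Lib.Helper28.Mult.HeMB
import Cfsg.Agent.Lib.Helper28.Mult.HeMC
import Cfsg.Agent.Lib.Helper28.He2058Simple
import Cfsg.Agent.Lib.Helper28.TCBase

/-!
# The Schur multiplier of the presented Held group is trivial (helper28)
-/

set_option autoImplicit false
set_option maxRecDepth 100000

namespace Cfsg.Agent.Lib.Helper28.Mult.HeM

open Cfsg.Agent.Lib.Helper28 Cfsg.Agent.Lib.Helper28.He2058 Cfsg.Agent.Lib.Helper28.V2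

abbrev uw : List ℕ := [1, 2, 3, 4, 1, 2, 3, 4, 1, 2, 3, 4, 1, 2, 3, 4, 1, 2, 3, 4, 1, 2, 3, 4, 1, 2, 3, 4]

/-- commutator of two words in involutions -/
def cw (p q : List ℕ) : List ℕ := p.reverse ++ q.reverse ++ p ++ q

/-- the generators of the covering presentation as words in the generators of `He` -/
def sw : ℕ → List ℕ
  | 0 => [0] | 1 => [1] | 2 => [2] | 3 => [3] | 4 => [4] | 5 => [5] | 6 => [6]
  | 7 => cw [2] [3] | 8 => cw [3] [4] | 9 => cw [3] [5] | 10 => cw [3] uw | 11 => cw [4] uw | 12 => cw [5] uw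
  | 13 => [2] | 14 => [3] | 15 => [4] | 16 => [5] | 17 => uw
  | 18 => [2, 5] | 19 => [3, 4] ++ uw
  | _ => []

def sw' (l : ℕ) : List ℕ := if l % 2 = 0 then sw (l / 2) else (sw (l / 2)).reverse

noncomputable def γ (i : ℕ) : Q.Grp := evalW Q.val (sw i)

theorem sw_lt : ∀ i, ∀ y ∈ sw i, y < 7 := by
  intro i
  by_cases hi : i < 20
  · interval_cases i <;> decide
  · have : sw i = [] := by
      unfold sw
      split <;> first | omega | rfl
    rw [this]; simp

theorem evalW_reverse (w : List ℕ) (hw : ∀ y ∈ w, y < 7) : evalW Q.val w.reverse = (evalW Q.val w)⁻¹ := by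
  induction w with
  | nil => simp
  | cons x w ih =>
    have hx : Q.val x = (Q.val x)⁻¹ := by
      have h := ok.val_inv x (hw x List.mem_cons_self)
      have e : Q.P.inv x = x := by
        have : x < 7 := hw x List.mem_cons_self
        interval_cases x <;> rfl
      rwa [e] at h
    rw [List.reverse_cons, evalW_append, ih (fun y hy => hw y (List.mem_cons_of_mem _ hy)), evalW_cons,
      evalW_cons, evalW_nil, mul_one, mul_inv_rev, ← hx]

theorem bval_γ (l : ℕ) : bval γ l = evalW Q.val (sw' l) := by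
  unfold bval sw'
  split_ifs
  · rfl
  · rw [evalW_reverse _ (sw_lt _)]; rfl

theorem evalW_γ (w : List ℕ) : evalW (bval γ) w = evalW Q.val (w.flatMap sw') := by
  rw [← evalW_flatMap]
  exact Prob.evalW_congr (fun y _ => bval_γ y)

theorem base_lt : ∀ b ∈ levels.map Lev.b, b < Q.n := by decide +kernel

theorem word_one (w : List ℕ) (hw : ∀ y ∈ w, y < 7)
    (hchk : ∀ b ∈ levels.map Lev.b, ptrace L.pt w b = b + 1) : evalW Q.val w = 1 :=
  ok.word_eq_one_of_base main.2.2 4030387200 (by norm_num) main.2.1 levels chain_ok levels_prod base_lt w hw hchk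

theorem rels_chk : ∀ r ∈ relsC, (∀ y ∈ r.flatMap sw', y < 7) ∧
    ∀ b ∈ levels.map Lev.b, ptrace L.pt (r.flatMap sw') b = b + 1 := by decide +kernel

theorem hγ : ∀ r ∈ C.rels, evalW (bval γ) r = 1 := by
  intro r hr
  rw [evalW_γ]
  exact word_one _ (rels_chk r hr).1 (rels_chk r hr).2

section Main

variable {Γ : Type} [Group Γ] [Finite Γ] (σ : Γ →* Q.Grp)

theorem card_le (hσ : Cfsg.IsStemExtension σ) : Nat.card Γ ≤ 4030387200 := by
  obtain ⟨g, hg, hW⟩ := Cov.exists_lift C_ok σ hσ.1 hσ.2.1 γ hγ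
  -- the lifts generate
  have htop : Sg (C.val g) [0, 1, 2, 3, 4, 5, 6, 7, 8, 9, 10, 11, 12, 13] = ⊤ := by
    apply Cfsg.Agent.Lib.Helper66.IsStemExtension.closure_eq_top hσ
    rw [eq_top_iff, ← ok.top]
    apply Subgroup.closure_mono
    rintro _ ⟨x, hx, rfl⟩
    have hx7 : x < 7 := hx
    refine ⟨C.val g (2 * x), ⟨2 * x, ?_, rfl⟩, ?_⟩
    · show 2 * x ∈ [0, 1, 2, 3, 4, 5, 6, 7, 8, 9, 10, 11, 12, 13]
      interval_cases x <;> decide
    · rw [Cov.val_two_mul g (show x < C.n by show x < 20; omega), hg]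
      show evalW Q.val (sw x) = Q.val x
      interval_cases x <;> simp [sw]
  -- the three links
  obtain ⟨fC, cC⟩ := HeMC.card_le g hW (by rw [Sg_nil]; infer_instance)
  rw [Sg_nil] at cC
  obtain ⟨fB, cB⟩ := HeMB.card_le g hW fC
  -- the commutators lie in the lift of `Sp₄(4)`
  have hS1 : ∀ i, 13 ≤ i → i < 18 → g i ∈ Sg (C.val g) [26, 27, 28, 29, 30, 31, 32, 33, 34, 35] := by
    intro i h1 h2
    apply Subgroup.subset_closure
    refine ⟨2 * i, ?_, Cov.val_two_mul g (show i < C.n by show i < 20; omega)⟩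
    show 2 * i ∈ [26, 27, 28, 29, 30, 31, 32, 33, 34, 35]
    interval_cases i <;> decide
  have hlift : ∀ (i : ℕ) (P : List ℕ), P.flatMap sw' = sw i → σ (g i) = σ (evalW (bval g) P) := by
    intro i P hP
    rw [hg, map_evalW_bval]
    have : (fun i => σ (g i)) = γ := funext hg
    rw [this, evalW_γ, hP]
    rfl
  have htau : ∀ x, 7 ≤ x → x < 13 → g x ∈ Sg (C.val g) [26, 27, 28, 29, 30, 31, 32, 33, 34, 35] := by
    intro x h1 h2
    have T := fun (j : ℕ) (P R : List ℕ) (a b : ℕ) (ha1 : 13 ≤ a) (ha2 : a < 18) (hb1 : 13 ≤ b) (hb2 : b < 18)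
      (e1 : C.nrm x = [2 * C.n + 2 * j + 1]) (e2 : C.rel j = invW P ++ invW R ++ P ++ R ++ [2 * x + 1])
      (e3 : P.flatMap sw' = sw a) (e4 : R.flatMap sw' = sw b) =>
      Cov.tau_mem σ hσ.2.1 g hW (Sg (C.val g) [26, 27, 28, 29, 30, 31, 32, 33, 34, 35]) x j P R e1 e2
        (g a) (g b) (hS1 a ha1 ha2) (hS1 b hb1 hb2) (hlift a P e3) (hlift b R e4)
    interval_cases x
    · exact T 32 [4] [6] 13 14 (by omega) (by omega) (by omega) (by omega) (by decide +kernel) (by decide +kernel) (by decide +kernel) (by decide +kernel)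
    · exact T 33 [6] [8] 14 15 (by omega) (by omega) (by omega) (by omega) (by decide +kernel) (by decide +kernel) (by decide +kernel) (by decide +kernel)
    · exact T 34 [6] [10] 14 16 (by omega) (by omega) (by omega) (by omega) (by decide +kernel) (by decide +kernel) (by decide +kernel) (by decide +kernel)
    · exact T 35 [6] (uw.map (fun y => 2 * y)) 14 17 (by omega) (by omega) (by omega) (by omega) (by decide +kernel) (by decide +kernel) (by decide +kernel) (by decide +kernel)
    · exact T 36 [8] (uw.map (fun y => 2 * y)) 15 17 (by omega) (by omega) (by omega) (by omega) (by decide +kernel) (by decide +kernel) (by decide +kernel) (by decide +kernel)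
    · exact T 37 [10] (uw.map (fun y => 2 * y)) 16 17 (by omega) (by omega) (by omega) (by omega) (by decide +kernel) (by decide +kernel) (by decide +kernel) (by decide +kernel)
  have hle : Sg (C.val g) [14, 15, 16, 17, 18, 19, 20, 21, 22, 23, 24, 25] ≤
      Sg (C.val g) [26, 27, 28, 29, 30, 31, 32, 33, 34, 35] := by
    unfold Sg
    rw [Subgroup.closure_le]
    rintro _ ⟨l, hl, rfl⟩
    have hl' : l ∈ [14, 15, 16, 17, 18, 19, 20, 21, 22, 23, 24, 25] := hl
    have h14 : 14 ≤ l ∧ l < 26 := by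
      simp only [List.mem_cons, List.mem_nil_iff, or_false] at hl'
      omega
    by_cases hp : l % 2 = 0
    · obtain ⟨x, rfl⟩ : ∃ x, l = 2 * x := ⟨l / 2, by omega⟩
      rw [Cov.val_two_mul g (show x < C.n by show x < 20; omega)]
      exact htau x (by omega) (by omega)
    · obtain ⟨x, rfl⟩ : ∃ x, l = 2 * x + 1 := ⟨l / 2, by omega⟩
      rw [Cov.val_two_mul_add_one g (show x < C.n by show x < 20; omega)]
      exact Subgroup.inv_mem _ (htau x (by omega) (by omega))
  have fT : Finite (Sg (C.val g) [14, 15, 16, 17, 18, 19, 20, 21, 22, 23, 24, 25]) :=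
    Finite.of_injective _ (Subgroup.inclusion_injective hle)
  have cT := Nat.card_le_card_of_injective _ (Subgroup.inclusion_injective hle)
  obtain ⟨fA, cA⟩ := HeMA.card_le g hW fT
  rw [htop] at cA
  have e : Nat.card (⊤ : Subgroup Γ) = Nat.card Γ := Nat.card_congr Subgroup.topEquiv.toEquiv
  rw [e] at cA
  have c1 : Nat.card (⊥ : Subgroup Γ) = 1 := by simp
  rw [c1] at cC
  calc Nat.card Γ ≤ 4116 * Nat.card (Sg (C.val g) [14, 15, 16, 17, 18, 19, 20, 21, 22, 23, 24, 25]) := cA
    _ ≤ 4116 * (240 * (4080 * 1)) :=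
        Nat.mul_le_mul_left _ (le_trans cT (le_trans cB (Nat.mul_le_mul_left _ cC)))
    _ = 4030387200 := by norm_num

end Main

/-- the Schur multiplier of the Held group is trivial -/
theorem main : Cfsg.HasCyclicSchurMultiplier Q.Grp 1 := by
  have : Finite Q.Grp := Nat.finite_of_card_ne_zero (by rw [He2058.main.2.1]; norm_num)
  rw [Cfsg.Agent.Lib.Helper66.hasCyclicSchurMultiplier_one_iff]
  intro Γ _ _ σ hσ
  exact ker_eq_bot_of_card_le σ hσ.1 (by rw [He2058.main.2.1]; exact card_le σ hσ)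

end Cfsg.Agent.Lib.Helper28.Mult.HeM
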